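import Cfsg.Agent.Doubling.Growth
import Cfsg.Agent.GTwoFour.TransferTL

/-!
# ODD half, D8: the end for `t` and an involution `c` of `K` (M23; typed by helper253)

* `inf_bot`: in `Growth.Dbl` the doubled groups are independent.
* `exists_hom`: `W` is normalised by commuting involutions `t, c`, the involutions of `t W` are `W`-conjugate to `t`,
  those of `c W` are conjugate to `c`, `t` is not conjugate to `c`, `t, c ∉ W` and `W⟨t, c⟩` contains a subgroup of odd
  index in `C(t)`: then `t` is not killed by all homomorphisms to `{±1}`.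
-/

set_option autoImplicit false

namespace Cfsg.Agent.OddHalf.D8.M23.EndTwo

open Subgroup Cfsg.Agent.Doubling

variable {G : Type*} [Group G]

theorem inf_bot {t : G} {V X : ℕ → Subgroup G} {n : ℕ} (h : Growth.Dbl t V X n) {k : ℕ} (hk : k < n) {v : G}
    (hv : v ∈ V k) (hw : v ∈ Growth.W V k) : v = 1 := by
  have hX : ∀ v ∈ V k, v ∈ Growth.W V k → t * v * t = v → v = 1 := by
    intro v hv hw hf
    have h3 : v ∈ X k ⊓ Growth.W X k := ⟨h.fix k hk v hv hf, (h.main k hk.le).1 v hw hf⟩
    rw [h.indep k hk] at h3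
    exact Subgroup.mem_bot.1 h3
  have hv' := h.conj k hk v hv
  have hw' := h.conj_W hk.le hw
  have hcomm : ∀ a ∈ V k, ∀ b ∈ V k, a * b = b * a := by
    intro a ha b hb
    have e1 := h.sq k hk (a * b) (mul_mem ha hb)
    have e2 := h.sq k hk a ha
    have e3 := h.sq k hk b hb
    calc a * b = a * ((a * b) * (a * b)) * b := by rw [e1, mul_one]
      _ = (a * a) * (b * a) * (b * b) := by group
      _ = b * a := by rw [e2, e3, one_mul, mul_one]
  have e : v * (t * v * t) = 1 := by
    apply hX _ (mul_mem hv hv') (mul_mem hw hw')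
    rw [h.conj_mul, h.conj_conj]
    exact hcomm _ hv' _ hv
  have e1 : t * v * t = v := by
    have e2 := h.sq k hk v hv
    exact mul_left_cancel (e.trans e2.symm)
  exact hX v hv hw e1

/-- `W⟨t, c⟩` -/
def S4 (W : Subgroup G) (t c : G) (ht : ∀ w ∈ W, t * w * t⁻¹ ∈ W) (hc : ∀ w ∈ W, c * w * c⁻¹ ∈ W)
    (tt : t * t = 1) (cc : c * c = 1) (tc : t * c = c * t) : Subgroup G where
  carrier := {g | g ∈ W ∨ t * g ∈ W ∨ c * g ∈ W ∨ t * c * g ∈ W}
  one_mem' := Or.inl (one_mem _)
  mul_mem' := by
    have hti : t⁻¹ = t := inv_eq_of_mul_eq_one_right tt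
    have hci : c⁻¹ = c := inv_eq_of_mul_eq_one_right cc
    rw [hti] at ht
    rw [hci] at hc
    have htc : ∀ w ∈ W, t * c * w * (t * c) ∈ W := by
      intro w hw
      have h1 := ht _ (hc w hw)
      have e : t * (c * w * c) * t = t * c * w * (t * c) := by
        calc t * (c * w * c) * t = t * c * w * (c * t) := by group
          _ = t * c * w * (t * c) := by rw [tc]
      rwa [e] at h1
    have tctc : t * c * (t * c) = 1 := by
      calc t * c * (t * c) = t * (c * t) * c := by group
        _ = (t * t) * (c * c) := by rw [← tc]; group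
        _ = 1 := by rw [tt, cc, one_mul]
    -- for `x, y ∈ {1, t, c, tc}`
    have key : ∀ x y a b : G, (∀ w ∈ W, y * w * y ∈ W) → y * y = 1 → x * a ∈ W → y * b ∈ W →
        (y * x) * (a * b) ∈ W := by
      intro x y a b hy hyy ha hb
      have h1 := mul_mem (hy _ ha) hb
      have e : y * (x * a) * y * (y * b) = (y * x) * (a * b) := by
        calc y * (x * a) * y * (y * b) = y * x * a * (y * y) * b := by group
          _ = _ := by rw [hyy]; group
      rwa [e] at h1
    have h1 : ∀ w ∈ W, (1 : G) * w * 1 ∈ W := fun w hw => by rwa [one_mul, mul_one]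
    have ht' := ht
    have o : (1 : G) * 1 = 1 := one_mul 1
    have c1 : c * (t * c) = t := by
      calc c * (t * c) = (c * t) * c := by group
        _ = t * (c * c) := by rw [← tc]; group
        _ = t := by rw [cc, mul_one]
    have c2 : t * (t * c) = c := by rw [← mul_assoc, tt, one_mul]
    have c3 : (t * c) * t = c := by rw [mul_assoc, ← tc, ← mul_assoc, tt, one_mul]
    have c4 : (t * c) * c = t := by rw [mul_assoc, cc, mul_one]
    rintro a b (ha | ha | ha | ha) (hb | hb | hb | hb)
    · exact Or.inl (mul_mem ha hb)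
    · right; left
      have := key 1 t a b ht tt (by rwa [one_mul]) hb
      rwa [mul_one] at this
    · right; right; left
      have := key 1 c a b hc cc (by rwa [one_mul]) hb
      rwa [mul_one] at this
    · right; right; right
      have := key 1 (t * c) a b htc tctc (by rwa [one_mul]) hb
      rwa [mul_one] at this
    · right; left
      have := key t 1 a b h1 o ha (by rwa [one_mul])
      rwa [one_mul] at this
    · left
      have := key t t a b ht tt ha hb
      rwa [tt, one_mul] at this
    · right; right; right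
      have := key t c a b hc cc ha hb
      rwa [← tc] at this
    · right; right; left
      have := key t (t * c) a b htc tctc ha hb
      rwa [c3] at this
    · right; right; left
      have := key c 1 a b h1 o ha (by rwa [one_mul])
      rwa [one_mul] at this
    · right; right; right
      exact key c t a b ht tt ha hb
    · left
      have := key c c a b hc cc ha hb
      rwa [cc, one_mul] at this
    · right; left
      have := key c (t * c) a b htc tctc ha hb
      rwa [c4] at this
    · right; right; right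
      have := key (t * c) 1 a b h1 o ha (by rwa [one_mul])
      rwa [one_mul] at this
    · right; right; left
      have := key (t * c) t a b ht tt ha hb
      rwa [c2] at this
    · right; left
      have := key (t * c) c a b hc cc ha hb
      rwa [c1] at this
    · left
      have := key (t * c) (t * c) a b htc tctc ha hb
      rwa [tctc, one_mul] at this
  inv_mem' := by
    have hti : t⁻¹ = t := inv_eq_of_mul_eq_one_right tt
    have hci : c⁻¹ = c := inv_eq_of_mul_eq_one_right cc
    rw [hti] at ht
    rw [hci] at hc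
    have htc : ∀ w ∈ W, t * c * w * (t * c) ∈ W := by
      intro w hw
      have h1 := ht _ (hc w hw)
      have e : t * (c * w * c) * t = t * c * w * (t * c) := by
        calc t * (c * w * c) * t = t * c * w * (c * t) := by group
          _ = t * c * w * (t * c) := by rw [tc]
      rwa [e] at h1
    have tctc : t * c * (t * c) = 1 := by
      calc t * c * (t * c) = t * (c * t) * c := by group
        _ = (t * t) * (c * c) := by rw [← tc]; group
        _ = 1 := by rw [tt, cc, one_mul]
    have key : ∀ y a : G, (∀ w ∈ W, y * w * y ∈ W) → y * y = 1 → y * a ∈ W → y * a⁻¹ ∈ W := by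
      intro y a hy hyy ha
      have h1 := hy _ (inv_mem ha)
      have e : y * (y * a)⁻¹ * y = y * a⁻¹ := by
        calc y * (y * a)⁻¹ * y = y * a⁻¹ * (y⁻¹ * y) := by group
          _ = y * a⁻¹ := by group
      rwa [e] at h1
    rintro a (ha | ha | ha | ha)
    · exact Or.inl (inv_mem ha)
    · exact Or.inr (Or.inl (key t a ht tt ha))
    · exact Or.inr (Or.inr (Or.inl (key c a hc cc ha)))
    · exact Or.inr (Or.inr (Or.inr (key (t * c) a htc tctc ha)))

/-- `W⟨tc⟩` -/
def S2 (W : Subgroup G) (y : G) (hy : ∀ w ∈ W, y * w * y⁻¹ ∈ W) (yy : y * y = 1) : Subgroup G where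
  carrier := {g | g ∈ W ∨ y * g ∈ W}
  one_mem' := Or.inl (one_mem _)
  mul_mem' := by
    have hyi : y⁻¹ = y := inv_eq_of_mul_eq_one_right yy
    rw [hyi] at hy
    rintro a b (ha | ha) (hb | hb)
    · exact Or.inl (mul_mem ha hb)
    · right
      have h1 := mul_mem (hy _ ha) hb
      have e : y * a * y * (y * b) = y * (a * b) := by
        calc y * a * y * (y * b) = y * a * (y * y) * b := by group
          _ = _ := by rw [yy]; group
      rwa [e] at h1
    · right
      have h1 := mul_mem ha hb
      rwa [mul_assoc] at h1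
    · left
      have h1 := mul_mem (hy _ ha) hb
      have e : y * (y * a) * y * (y * b) = a * b := by
        calc y * (y * a) * y * (y * b) = (y * y) * a * (y * y) * b := by group
          _ = _ := by rw [yy]; group
      rwa [e] at h1
  inv_mem' := by
    have hyi : y⁻¹ = y := inv_eq_of_mul_eq_one_right yy
    rw [hyi] at hy
    rintro a (ha | ha)
    · exact Or.inl (inv_mem ha)
    · right
      have h1 := hy _ (inv_mem ha)
      have e : y * (y * a)⁻¹ * y = y * a⁻¹ := by
        calc y * (y * a)⁻¹ * y = y * a⁻¹ * (y⁻¹ * y) := by group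
          _ = y * a⁻¹ := by group
      rwa [e] at h1

/-- **the end** -/
theorem false_of [Finite G] (W : Subgroup G) {t c : G} (ht : ∀ w ∈ W, t * w * t⁻¹ ∈ W)
    (hc : ∀ w ∈ W, c * w * c⁻¹ ∈ W) (tt : t * t = 1) (cc : c * c = 1) (tc : t * c = c * t)
    (tW : t ∉ W) (cW : c ∉ W)
    (h1 : ∀ w ∈ W, (t * w) * (t * w) = 1 → ∃ x ∈ W, t * w = x * t * x⁻¹)
    (h2 : ∀ w ∈ W, (c * w) * (c * w) = 1 → ∃ x ∈ W, c * w = x * c * x⁻¹)
    (hn : ∀ g : G, g * t * g⁻¹ ≠ c) (hG : ∀ f : G →* ℤˣ, f t = 1)
    {T : Subgroup G} (hT : ∀ x ∈ T, x ∈ W ∨ t * x ∈ W ∨ c * x ∈ W ∨ t * c * x ∈ W)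
    (hodd : ¬ 2 ∣ T.relIndex (centralizer ({t} : Set G))) : False := by
  have hti : t⁻¹ = t := inv_eq_of_mul_eq_one_right tt
  have hci : c⁻¹ = c := inv_eq_of_mul_eq_one_right cc
  have htc : ∀ w ∈ W, t * c * w * (t * c)⁻¹ ∈ W := by
    intro w hw
    have h1 := ht _ (hc w hw)
    have e : t * (c * w * c⁻¹) * t⁻¹ = t * c * w * (t * c)⁻¹ := by group
    rwa [e] at h1
  have tctc : t * c * (t * c) = 1 := by
    calc t * c * (t * c) = t * (c * t) * c := by group
      _ = (t * t) * (c * c) := by rw [← tc]; group
      _ = 1 := by rw [tt, cc, one_mul]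
  set S := S4 W t c ht hc tt cc tc with hS
  set S₁ := S2 W (t * c) htc tctc with hS₁
  have mS : ∀ g, g ∈ S ↔ g ∈ W ∨ t * g ∈ W ∨ c * g ∈ W ∨ t * c * g ∈ W := fun g => Iff.rfl
  have mS₁ : ∀ g, g ∈ S₁ ↔ g ∈ W ∨ t * c * g ∈ W := fun g => Iff.rfl
  have tS : t ∈ S := (mS t).2 (Or.inr (Or.inl (by rw [tt]; exact one_mem _)))
  have tS₁ : t ∉ S₁ := by
    rw [mS₁, not_or]
    refine ⟨tW, fun h => cW ?_⟩
    have e : t * c * t = c := by rw [mul_assoc, ← tc, ← mul_assoc, tt, one_mul]
    rwa [e] at h
  have cinv : ∀ g, c * (t * g) = t * c * g := by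
    intro g
    calc c * (t * g) = (c * t) * g := by group
      _ = t * c * g := by rw [tc]
  have tcan : ∀ g, t * (t * g) = g := fun g => by rw [← mul_assoc, tt, one_mul]
  have ccan : ∀ g, c * (c * g) = g := fun g => by rw [← mul_assoc, cc, one_mul]
  have h2idx : S₁.relIndex S = 2 := by
    rw [relIndex, index_eq_two_iff]
    refine ⟨⟨t, tS⟩, ?_⟩
    rintro ⟨b, hb⟩
    rw [mem_subgroupOf, mem_subgroupOf]
    show Xor (b * t ∈ S₁) (b ∈ S₁)
    -- `b t ∈ S₁ ↔ t b ∈ S₁`
    have hconj : ∀ b, b * t ∈ S₁ ↔ t * b ∈ S₁ := by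
      have hx : ∀ b, b ∈ S₁ → t * b * t ∈ S₁ := by
        intro b hb
        rw [mS₁] at hb ⊢
        rcases hb with hb | hb
        · left
          have := ht _ hb
          rwa [hti] at this
        · right
          have := ht _ hb
          rw [hti] at this
          have e : t * (t * c * b) * t = t * c * (t * b * t) := by
            calc t * (t * c * b) * t = t * (t * c) * b * t := by group
              _ = t * (c * t) * b * t := by rw [tc]
              _ = t * c * (t * b * t) := by group
          rwa [e] at this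
      intro b
      constructor
      · intro h
        have := hx _ h
        have e : t * (b * t) * t = t * b := by
          calc t * (b * t) * t = t * b * (t * t) := by group
            _ = t * b := by rw [tt, mul_one]
        rwa [e] at this
      · intro h
        have := hx _ h
        have e : t * (t * b) * t = b * t := by rw [tcan]
        rwa [e] at this
    rw [hconj]
    have hboth : ¬ (b ∈ S₁ ∧ t * b ∈ S₁) := by
      rintro ⟨hb1, hb2⟩
      apply tS₁
      have := S₁.mul_mem hb2 (S₁.inv_mem hb1)
      have e : t * b * b⁻¹ = t := by group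
      rwa [e] at this
    have hone : b ∈ S₁ ∨ t * b ∈ S₁ := by
      rw [mS₁, mS₁]
      rcases (mS b).1 hb with h | h | h | h
      · exact Or.inl (Or.inl h)
      · exact Or.inr (Or.inl h)
      · right; right
        have e : t * c * (t * b) = c * b := by
          rw [← cinv, tcan]
        rw [e]; exact h
      · exact Or.inl (Or.inr h)
    rcases hone with h | h
    · exact Or.inr ⟨h, fun h' => hboth ⟨h, h'⟩⟩
    · exact Or.inl ⟨h, fun h' => hboth ⟨h', h⟩⟩
  have hodd' : Odd (S.relIndex (centralizer {t})) := by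
    have hTS : T ≤ S := fun x hx => (mS x).2 (hT x hx)
    rw [← Nat.not_even_iff_odd, even_iff_two_dvd]
    exact fun h => hodd (h.trans (relIndex_dvd_of_le_left _ hTS))
  obtain ⟨g, hgS, hgS₁, -, hg⟩ := Cfsg.Agent.GTwoFour.TransferTL.exists_extremal_two S S₁ h2idx t hG tt tS
    tS₁ hodd'
  set u := g⁻¹ * t * g with hu
  have huu : u * u = 1 := by
    calc u * u = g⁻¹ * (t * t) * g := by rw [hu]; group
      _ = 1 := by rw [tt]; group
  rw [mS₁, not_or] at hgS₁
  rcases (mS u).1 hgS with h | h | h | h
  · exact hgS₁.1 h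
  · obtain ⟨x, hx, hxx⟩ := h1 _ h (by rw [tcan]; exact huu)
    rw [tcan] at hxx
    exact hg x⁻¹ (S.inv_mem ((mS x).2 (Or.inl hx))) (by rw [inv_inv]; exact hxx)
  · obtain ⟨x, hx, hxx⟩ := h2 _ h (by rw [ccan]; exact huu)
    rw [ccan] at hxx
    apply hn (x⁻¹ * g⁻¹)
    calc x⁻¹ * g⁻¹ * t * (x⁻¹ * g⁻¹)⁻¹ = x⁻¹ * (g⁻¹ * t * g) * x := by group
      _ = x⁻¹ * (x * c * x⁻¹) * x := by rw [← hu, hxx]
      _ = c := by group
  · exact hgS₁.2 h

end Cfsg.Agent.OddHalf.D8.M23.EndTwo
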