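import Mathlib

/-!
# ODD half, D8: the equivariant family (M23; helper438's text #8422, typed by helper253)

`Pos t K`: `C_G(t) = ⟨t⟩ × K`. `Fam t K D a`: for every `v ∈ D` (`D = {1} ∪ z^K`) an element `a v` of order at most two with
`t ^ (a v) = t v`, commuting with `C_K(v)`, and `a` commutes with the action of `K`.

`Pos.exists_fam`: the family exists as soon as some `x` fixes `z` and maps `t` to `t z`, `P = C_K(z)` is perfect with
centre `⟨z⟩` and `x` induces an inner automorphism on `P`.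
-/

set_option autoImplicit false

namespace Cfsg.Agent.OddHalf.D8.M23.Family

open Subgroup

variable {G : Type*} [Group G]

/-- `C_G(t) = ⟨t⟩ × K` -/
structure Pos (t : G) (K : Subgroup G) : Prop where
  tt : t * t = 1
  tK : t ∉ K
  Kt : ∀ x ∈ K, x * t = t * x
  cen : ∀ g : G, g * t = t * g → g ∈ K ∨ t * g ∈ K

/-- the equivariant family -/
structure Fam (t : G) (K : Subgroup G) (D : Set G) (a : G → G) : Prop extends Pos t K where
  D1 : (1 : G) ∈ D
  DK : ∀ v ∈ D, v ∈ K
  Dsq : ∀ v ∈ D, v * v = 1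
  Dconj : ∀ k ∈ K, ∀ v ∈ D, k * v * k⁻¹ ∈ D
  one : a 1 = 1
  eqv : ∀ k ∈ K, ∀ v ∈ D, k * a v * k⁻¹ = a (k * v * k⁻¹)
  sq : ∀ v ∈ D, a v * a v = 1
  act : ∀ v ∈ D, a v * t * a v = t * v

/-- the involution `y ∈ C(P)` with `t ^ y = t z` -/
theorem Pos.exists_y {t : G} {K : Subgroup G} (h : Pos t K) {z x : G} (zK : z ∈ K) (zz : z * z = 1)
    (z1 : z ≠ 1) (hxt : x * t * x⁻¹ = t * z) (hxz : x * z * x⁻¹ = z) (P : Subgroup G)
    (hP : ∀ y, y ∈ P ↔ y ∈ K ∧ y * z = z * y) (perf : ⁅P, P⁆ = P)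
    (inner : (∀ y, y ∈ P ↔ x * y * x⁻¹ ∈ P) → ∃ p ∈ P, ∀ y ∈ P, x * y * x⁻¹ = p * y * p⁻¹)
    (cenP : ∀ y ∈ P, (∀ w ∈ P, y * w = w * y) → y = 1 ∨ y = z) :
    ∃ y : G, y * y = 1 ∧ y * t * y = t * z ∧ ∀ w ∈ P, w * y = y * w := by
  have tz : t * z = z * t := (h.Kt z zK).symm
  have t1 : t ≠ 1 := fun e => h.tK (e ▸ K.one_mem)
  have tinv : t⁻¹ = t := inv_eq_of_mul_eq_one_right h.tt
  -- `C = C(t) ∩ C(z)`
  set C : Subgroup G := centralizer ({t} : Set G) ⊓ centralizer ({z} : Set G) with hC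
  have hmemC : ∀ y, y ∈ C ↔ y * t = t * y ∧ y * z = z * y := by
    intro y
    rw [hC, mem_inf, mem_centralizer_singleton_iff, mem_centralizer_singleton_iff]
  have hPC : P ≤ C := by
    intro y hy
    rw [hP] at hy
    exact (hmemC y).2 ⟨h.Kt y hy.1, hy.2⟩
  have hCP : ∀ y ∈ C, y ∈ P ∨ t * y ∈ P := by
    intro y hy
    rw [hmemC] at hy
    rcases h.cen y hy.1 with h1 | h1
    · exact Or.inl ((hP y).2 ⟨h1, hy.2⟩)
    · refine Or.inr ((hP _).2 ⟨h1, ?_⟩)
      calc t * y * z = t * (y * z) := by group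
        _ = (t * z) * y := by rw [hy.2]; group
        _ = z * (t * y) := by rw [tz]; group
  -- commutators of `C` lie in `P`
  have hcom : ⁅C, C⁆ ≤ P := by
    rw [commutator_le]
    intro g hg k hk
    rw [commutatorElement_def]
    have key : ∀ g ∈ C, ∀ k ∈ C, g ∈ P → g * k * g⁻¹ * k⁻¹ ∈ P := by
      intro g hg k hk hgP
      have h1 : k * g⁻¹ * k⁻¹ ∈ P := by
        rcases hCP k hk with h2 | h2
        · exact P.mul_mem (P.mul_mem h2 (P.inv_mem hgP)) (P.inv_mem h2)
        · have h3 := P.mul_mem (P.mul_mem h2 (P.inv_mem hgP)) (P.inv_mem h2)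
          have e : t * k * g⁻¹ * (t * k)⁻¹ = k * g⁻¹ * k⁻¹ := by
            have h4 : k * g⁻¹ * k⁻¹ ∈ C := C.mul_mem (C.mul_mem hk (C.inv_mem hg)) (C.inv_mem hk)
            have h5 := ((hmemC _).1 h4).1
            calc t * k * g⁻¹ * (t * k)⁻¹ = t * (k * g⁻¹ * k⁻¹) * t⁻¹ := by group
              _ = k * g⁻¹ * k⁻¹ := by rw [← h5]; group
          rwa [e] at h3
      have h2 : g * k * g⁻¹ * k⁻¹ = g * (k * g⁻¹ * k⁻¹) := by group
      rw [h2]
      exact P.mul_mem hgP h1
    rcases hCP g hg with h1 | h1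
    · exact key g hg k hk h1
    · have ht : t ∈ C := (hmemC t).2 ⟨rfl, tz⟩
      have h2 := key (t * g) (C.mul_mem ht hg) k hk h1
      have e : t * g * k * (t * g)⁻¹ * k⁻¹ = g * k * g⁻¹ * k⁻¹ := by
        have h3 : g * k * g⁻¹ ∈ C := C.mul_mem (C.mul_mem hg hk) (C.inv_mem hg)
        have h5 := ((hmemC _).1 h3).1
        calc t * g * k * (t * g)⁻¹ * k⁻¹ = t * (g * k * g⁻¹) * t⁻¹ * k⁻¹ := by group
          _ = (g * k * g⁻¹) * t * t⁻¹ * k⁻¹ := by rw [h5]
          _ = g * k * g⁻¹ * k⁻¹ := by group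
      rwa [e] at h2
  -- `x` and `x⁻¹` normalise `C`
  have hxtz : x * (t * z) * x⁻¹ = t := by
    calc x * (t * z) * x⁻¹ = (x * t * x⁻¹) * (x * z * x⁻¹) := by group
      _ = t * (z * z) := by rw [hxt, hxz]; group
      _ = t := by rw [zz, mul_one]
  have conj_comm : ∀ (g u v : G), u * v = v * u → (g * u * g⁻¹) * (g * v * g⁻¹) =
      (g * v * g⁻¹) * (g * u * g⁻¹) := by
    intro g u v e
    calc (g * u * g⁻¹) * (g * v * g⁻¹) = g * (u * v) * g⁻¹ := by group
      _ = g * (v * u) * g⁻¹ := by rw [e]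
      _ = _ := by group
  have comm_tz : ∀ u : G, u * t = t * u → u * z = z * u → u * (t * z) = (t * z) * u := by
    intro u h1 h2
    calc u * (t * z) = (u * t) * z := by group
      _ = t * (u * z) := by rw [h1]; group
      _ = t * z * u := by rw [h2]; group
  have comm_back : ∀ u : G, u * (t * z) = (t * z) * u → u * z = z * u → u * t = t * u := by
    intro u h1 h2
    calc u * t = u * (t * z) * z := by rw [mul_assoc, mul_assoc t, zz, mul_one]
      _ = t * z * (u * z) := by rw [h1]; group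
      _ = t * (z * z) * u := by rw [h2]; group
      _ = t * u := by rw [zz, mul_one]
  have hxC : ∀ y ∈ C, x * y * x⁻¹ ∈ C := by
    intro y hy
    have hy' := (hmemC y).1 hy
    have h1 := conj_comm x y t hy'.1
    have h2 := conj_comm x y z hy'.2
    rw [hxt] at h1
    rw [hxz] at h2
    exact (hmemC _).2 ⟨comm_back _ h1 h2, h2⟩
  have hxz' : x⁻¹ * z * x⁻¹⁻¹ = z := by
    calc x⁻¹ * z * x⁻¹⁻¹ = x⁻¹ * (x * z * x⁻¹) * x := by rw [hxz]; group
      _ = z := by group
  have hxt' : x⁻¹ * t * x⁻¹⁻¹ = t * z := by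
    calc x⁻¹ * t * x⁻¹⁻¹ = x⁻¹ * (x * (t * z) * x⁻¹) * x := by rw [hxtz]; group
      _ = t * z := by group
  have hxC' : ∀ y ∈ C, x⁻¹ * y * x⁻¹⁻¹ ∈ C := by
    intro y hy
    have hy' := (hmemC y).1 hy
    have h1 := conj_comm x⁻¹ y t hy'.1
    have h2 := conj_comm x⁻¹ y z hy'.2
    rw [hxt'] at h1
    rw [hxz'] at h2
    exact (hmemC _).2 ⟨comm_back _ h1 h2, h2⟩
  have hnorm : ∀ g : G, (∀ y ∈ C, g * y * g⁻¹ ∈ C) → ∀ y ∈ P, g * y * g⁻¹ ∈ P := by
    intro g hg
    have h1 : P.map (MulAut.conj g).toMonoidHom ≤ C := by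
      rintro _ ⟨y, hy, rfl⟩
      exact hg y (hPC hy)
    have h2 : P.map (MulAut.conj g).toMonoidHom ≤ P := by
      have h3 : P.map (MulAut.conj g).toMonoidHom =
          ⁅P.map (MulAut.conj g).toMonoidHom, P.map (MulAut.conj g).toMonoidHom⁆ := by
        rw [← map_commutator, perf]
      rw [h3]
      exact (commutator_mono h1 h1).trans hcom
    intro y hy
    exact h2 ⟨y, hy, rfl⟩
  obtain ⟨p, hp, hpx⟩ := inner (fun y => ⟨fun hy => hnorm x hxC y hy, fun hy => by
    have h1 := hnorm x⁻¹ hxC' _ hy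
    have e : x⁻¹ * (x * y * x⁻¹) * x⁻¹⁻¹ = y := by group
    rwa [e] at h1⟩)
  have hp' := (hP p).1 hp
  have hpt := h.Kt p hp'.1
  obtain ⟨y, hy⟩ : ∃ y : G, y = p⁻¹ * x := ⟨_, rfl⟩
  have hyP : ∀ w ∈ P, w * y = y * w := by
    intro w hw
    have h1 := hpx w hw
    calc w * y = p⁻¹ * (p * w * p⁻¹) * x := by rw [hy]; group
      _ = p⁻¹ * (x * w * x⁻¹) * x := by rw [h1]
      _ = y * w := by rw [hy]; group
  have zP : z ∈ P := (hP z).2 ⟨zK, rfl⟩
  have hyz := hyP z zP
  have hyt : y * t * y⁻¹ = t * z := by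
    have h1 : p⁻¹ * t * p = t := by rw [mul_assoc, ← hpt]; group
    have h2 : p⁻¹ * z * p = z := by rw [mul_assoc, ← hp'.2]; group
    calc y * t * y⁻¹ = p⁻¹ * (x * t * x⁻¹) * p := by rw [hy]; group
      _ = p⁻¹ * (t * z) * p := by rw [hxt]
      _ = (p⁻¹ * t * p) * (p⁻¹ * z * p) := by group
      _ = t * z := by rw [h1, h2]
  have hyt2 : y * t = t * z * y := by
    rw [← hyt]; group
  have hyytc : y * y * t = t * (y * y) := by
    calc y * y * t = y * (y * t) := by group
      _ = y * (t * z * y) := by rw [hyt2]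
      _ = y * t * (z * y) := by group
      _ = t * z * y * (z * y) := by rw [hyt2]
      _ = t * z * (y * z) * y := by group
      _ = t * (z * z) * (y * y) := by rw [← hyz]; group
      _ = t * (y * y) := by rw [zz, mul_one]
  have hyyP : ∀ w ∈ P, w * (y * y) = y * y * w := by
    intro w hw
    have h1 := hyP w hw
    calc w * (y * y) = (w * y) * y := by group
      _ = y * w * y := by rw [h1]
      _ = y * (w * y) := by group
      _ = y * (y * w) := by rw [h1]
      _ = y * y * w := by group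
  have tzt : t * z ≠ t := fun e => z1 (mul_eq_left.1 e)
  rcases h.cen _ hyytc with h1 | h1
  · have h2 : y * y ∈ P := (hP _).2 ⟨h1, (hyyP z zP).symm⟩
    rcases cenP _ h2 (fun w hw => (hyyP w hw).symm) with h3 | h3
    · refine ⟨y, h3, ?_, hyP⟩
      calc y * t * y = t * z * y * y := by rw [hyt2]
        _ = t * z * (y * y) := by group
        _ = t * z := by rw [h3, mul_one]
    · refine ⟨t * y, ?_, ?_, ?_⟩
      · calc t * y * (t * y) = t * (y * t) * y := by group
          _ = (t * t) * z * (y * y) := by rw [hyt2]; group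
          _ = 1 := by rw [h.tt, h3, one_mul, zz]
      · calc t * y * t * (t * y) = t * y * (t * t) * y := by group
          _ = t * (y * y) := by rw [h.tt]; group
          _ = t * z := by rw [h3]
      · intro w hw
        have h4 := h.Kt w ((hP w).1 hw).1
        have h5 := hyP w hw
        calc w * (t * y) = (w * t) * y := by group
          _ = t * (w * y) := by rw [h4]; group
          _ = t * y * w := by rw [h5]; group
  · exfalso
    have h2 : t * (y * y) ∈ P := by
      refine (hP _).2 ⟨h1, ?_⟩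
      have h3 := hyyP z zP
      calc t * (y * y) * z = t * (y * y * z) := by group
        _ = (t * z) * (y * y) := by rw [← h3]; group
        _ = z * (t * (y * y)) := by rw [tz]; group
    have h3 := cenP _ h2 (fun w hw => by
      have h4 := h.Kt w ((hP w).1 hw).1
      have h5 := hyyP w hw
      calc t * (y * y) * w = t * (y * y * w) := by group
        _ = (t * w) * (y * y) := by rw [← h5]; group
        _ = w * (t * (y * y)) := by rw [← h4]; group)
    have hyyt : y * y = t ∨ y * y = t * z := by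
      rcases h3 with h3 | h3
      · left
        calc y * y = t * (t * (y * y)) := by rw [← mul_assoc, h.tt, one_mul]
          _ = t := by rw [h3, mul_one]
      · right
        calc y * y = t * (t * (y * y)) := by rw [← mul_assoc, h.tt, one_mul]
          _ = t * z := by rw [h3]
    rcases hyyt with h4 | h4
    · apply tzt
      rw [← hyt]
      calc y * t * y⁻¹ = y * (y * y) * y⁻¹ := by rw [h4]
        _ = y * y := by group
        _ = t := h4
    · -- `y` commutes with `y² = t z`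
      have h5 : y * (t * z) * y⁻¹ = t * z := by
        calc y * (t * z) * y⁻¹ = y * (y * y) * y⁻¹ := by rw [h4]
          _ = y * y := by group
          _ = t * z := h4
      have h6 : y * (t * z) * y⁻¹ = t := by
        calc y * (t * z) * y⁻¹ = (y * t * y⁻¹) * (y * z * y⁻¹) := by group
          _ = t * z * (z * y * y⁻¹) := by rw [hyt, ← hyz]
          _ = t * (z * z) := by group
          _ = t := by rw [zz, mul_one]
      exact tzt (h5.symm.trans h6)

/-- **existence of the family** -/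
theorem Pos.exists_fam {t : G} {K : Subgroup G} (h : Pos t K) {z y : G} (zK : z ∈ K) (zz : z * z = 1)
    (yy : y * y = 1) (hyt : y * t * y = t * z) (hy : ∀ w ∈ K, w * z = z * w → w * y = y * w) :
    ∃ a : G → G, Fam t K {v | v = 1 ∨ ∃ k ∈ K, k * z * k⁻¹ = v} a := by
  classical
  have z1y : z = 1 → y * t = t * y := by
    intro e
    rw [e, mul_one] at hyt
    calc y * t = y * t * (y * y) := by rw [yy, mul_one]
      _ = (y * t * y) * y := by group
      _ = t * y := by rw [hyt]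
  let a : G → G := fun v => if v = 1 then 1 else
    if hv : ∃ k, k ∈ K ∧ k * z * k⁻¹ = v then hv.choose * y * (hv.choose)⁻¹ else 1
  have a1 : a 1 = 1 := if_pos rfl
  have ak : ∀ k ∈ K, k * z * k⁻¹ ≠ 1 → a (k * z * k⁻¹) = k * y * k⁻¹ := by
    intro k hk hk1
    have hv : ∃ k', k' ∈ K ∧ k' * z * k'⁻¹ = k * z * k⁻¹ := ⟨k, hk, rfl⟩
    have e : a (k * z * k⁻¹) = hv.choose * y * (hv.choose)⁻¹ := by
      show (if k * z * k⁻¹ = 1 then 1 else _) = _
      rw [if_neg hk1, dif_pos hv]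
    rw [e]
    obtain ⟨h1, h2⟩ := hv.choose_spec
    set k' := hv.choose
    -- `k⁻¹ k'` centralises `z`
    have h3 := hy (k⁻¹ * k') (K.mul_mem (K.inv_mem hk) h1) (by
      calc k⁻¹ * k' * z = k⁻¹ * (k' * z * k'⁻¹) * k' := by group
        _ = k⁻¹ * (k * z * k⁻¹) * k' := by rw [h2]
        _ = z * (k⁻¹ * k') := by group)
    calc k' * y * k'⁻¹ = k * (k⁻¹ * k' * y) * k'⁻¹ := by group
      _ = k * (y * (k⁻¹ * k')) * k'⁻¹ := by rw [h3]
      _ = k * y * k⁻¹ := by group
  refine ⟨a, ⟨h, Or.inl rfl, ?_, ?_, ?_, a1, ?_, ?_, ?_⟩⟩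
  · rintro v (rfl | ⟨k, hk, rfl⟩)
    · exact K.one_mem
    · exact K.mul_mem (K.mul_mem hk zK) (K.inv_mem hk)
  · rintro v (rfl | ⟨k, hk, rfl⟩)
    · exact mul_one 1
    · calc k * z * k⁻¹ * (k * z * k⁻¹) = k * (z * z) * k⁻¹ := by group
        _ = 1 := by rw [zz]; group
  · rintro l hl v (rfl | ⟨k, hk, rfl⟩)
    · left; group
    · right
      exact ⟨l * k, K.mul_mem hl hk, by group⟩
  · rintro l hl v (rfl | ⟨k, hk, rfl⟩)
    · have e : l * 1 * l⁻¹ = (1 : G) := by group
      rw [e, a1]; group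
    · by_cases hk1 : k * z * k⁻¹ = 1
      · have e : l * (k * z * k⁻¹) * l⁻¹ = 1 := by rw [hk1]; group
        rw [e, hk1, a1]; group
      · have e : l * (k * z * k⁻¹) * l⁻¹ = (l * k) * z * (l * k)⁻¹ := by group
        have h1 : (l * k) * z * (l * k)⁻¹ ≠ 1 := by
          intro h2
          apply hk1
          rw [← e] at h2
          calc k * z * k⁻¹ = l⁻¹ * (l * (k * z * k⁻¹) * l⁻¹) * l := by group
            _ = 1 := by rw [h2]; group
        rw [e, ak _ (K.mul_mem hl hk) h1, ak k hk hk1]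
        group
  · rintro v (rfl | ⟨k, hk, rfl⟩)
    · rw [a1, mul_one]
    · by_cases hk1 : k * z * k⁻¹ = 1
      · rw [hk1, a1, mul_one]
      · rw [ak k hk hk1]
        calc k * y * k⁻¹ * (k * y * k⁻¹) = k * (y * y) * k⁻¹ := by group
          _ = 1 := by rw [yy]; group
  · rintro v (rfl | ⟨k, hk, rfl⟩)
    · rw [a1]; group
    · by_cases hk1 : k * z * k⁻¹ = 1
      · rw [hk1, a1]; group
      · rw [ak k hk hk1]
        have h1 := h.Kt k hk
        have h2 := h.Kt k⁻¹ (K.inv_mem hk)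
        calc k * y * k⁻¹ * t * (k * y * k⁻¹) = k * y * (k⁻¹ * t) * (k * y * k⁻¹) := by group
          _ = k * y * t * (y * k⁻¹) := by rw [h2]; group
          _ = k * (y * t * y) * k⁻¹ := by group
          _ = (k * t) * z * k⁻¹ := by rw [hyt]; group
          _ = t * (k * z * k⁻¹) := by rw [h1]; group

end Cfsg.Agent.OddHalf.D8.M23.Family
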