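import Cfsg.Agent.OddHalf.D8.M23.Pair
import Cfsg.Agent.OddHalf.D8.M23.EndTwo

/-!
# ODD half, D8: the doubled groups (M23; helper438's text #8422, typed by helper253)

`Elem D a E`: `E` is an elementary abelian subgroup contained in `D` and `a` is a homomorphism on `E`;
`dbl a E = E × a(E)`. `Data`: `V = V₀ A`, `V' = V₀ B` with `[A, B] ≤ V₀`, and an involution `c` acting freely
on `V₀, A, B`. Then `W = dbl V₀ · dbl A · dbl B` is normalised by `t` and `c`, all involutions of `t W` (`c W`) are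
`W`-conjugate to `t` (`c`), and a homomorphism `G → {±1}` does not kill `t`.
-/

set_option autoImplicit false

namespace Cfsg.Agent.OddHalf.D8.M23.Grow

open Subgroup Cfsg.Agent.OddHalf.D8.M23.Family Cfsg.Agent.OddHalf.D8.M23.Pair Cfsg.Agent.Doubling

variable {G : Type*} [Group G] {t : G} {K : Subgroup G} {D : Set G} {a : G → G}

/-- `a` is a homomorphism on the elementary abelian group `E` -/
structure Elem (D : Set G) (a : G → G) (E : Subgroup G) : Prop where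
  sub : ∀ v ∈ E, v ∈ D
  ab : ∀ v ∈ E, ∀ w ∈ E, v * w = w * v
  hom : ∀ v ∈ E, ∀ w ∈ E, a v * a w = a (v * w)

theorem Elem.mono {E E' : Subgroup G} (h : Elem D a E) (hle : E' ≤ E) : Elem D a E' :=
  ⟨fun v hv => h.sub v (hle hv), fun v hv w hw => h.ab v (hle hv) w (hle hw),
    fun v hv w hw => h.hom v (hle hv) w (hle hw)⟩

/-- the doubled group -/
def dbl (a : G → G) (E : Subgroup G) : Subgroup G := E ⊔ closure (a '' E)

namespace Elem

variable {E : Subgroup G}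

theorem acomm (h : Elem D a E) {v w : G} (hv : v ∈ E) (hw : w ∈ E) : a v * a w = a w * a v := by
  rw [h.hom v hv w hw, h.hom w hw v hv, h.ab v hv w hw]

theorem vacomm (F : Fam t K D a) (h : Elem D a E) {v w : G} (hv : v ∈ E) (hw : w ∈ E) : v * a w = a w * v :=
  fam_comm F (F.DK v (h.sub v hv)) (h.sub w hw) (h.ab v hv w hw)

theorem mem_dbl (F : Fam t K D a) (h : Elem D a E) {g : G} :
    g ∈ dbl a E ↔ ∃ v ∈ E, ∃ w ∈ E, g = v * a w := by
  constructor
  · intro hg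
    let S : Subgroup G :=
      { carrier := {g | ∃ v ∈ E, ∃ w ∈ E, g = v * a w}
        one_mem' := ⟨1, one_mem _, 1, one_mem _, by rw [F.one, mul_one]⟩
        mul_mem' := by
          rintro _ _ ⟨v, hv, w, hw, rfl⟩ ⟨v', hv', w', hw', rfl⟩
          refine ⟨v * v', mul_mem hv hv', w * w', mul_mem hw hw', ?_⟩
          rw [← h.hom w hw w' hw']
          calc v * a w * (v' * a w') = v * (a w * v') * a w' := by group
            _ = v * (v' * a w) * a w' := by rw [h.vacomm F hv' hw]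
            _ = v * v' * (a w * a w') := by group
        inv_mem' := by
          rintro _ ⟨v, hv, w, hw, rfl⟩
          refine ⟨v⁻¹, inv_mem hv, w, hw, ?_⟩
          rw [mul_inv_rev, fam_inv F (h.sub w hw), h.vacomm F (inv_mem hv) hw] }
    have hS : dbl a E ≤ S := by
      refine sup_le (fun v hv => ⟨v, hv, 1, one_mem _, by rw [F.one, mul_one]⟩) ?_
      rw [closure_le]
      rintro _ ⟨w, hw, rfl⟩
      exact ⟨1, one_mem _, w, hw, (one_mul _).symm⟩
    exact hS hg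
  · rintro ⟨v, hv, w, hw, rfl⟩
    exact mul_mem ((le_sup_left : E ≤ dbl a E) hv)
      ((le_sup_right : closure (a '' E) ≤ dbl a E) (subset_closure ⟨w, hw, rfl⟩))

theorem le_dbl (a : G → G) (E : Subgroup G) : E ≤ dbl a E := le_sup_left

theorem a_mem_dbl {w : G} (hw : w ∈ E) : a w ∈ dbl a E :=
  (le_sup_right : closure (a '' E) ≤ dbl a E) (subset_closure ⟨w, hw, rfl⟩)

/-- elements of `dbl a E` commute and are involutions -/
theorem dbl_sq (F : Fam t K D a) (h : Elem D a E) {g : G} (hg : g ∈ dbl a E) : g * g = 1 := by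
  obtain ⟨v, hv, w, hw, rfl⟩ := (h.mem_dbl F).1 hg
  calc v * a w * (v * a w) = v * (a w * v) * a w := by group
    _ = (v * v) * (a w * a w) := by rw [← h.vacomm F hv hw]; group
    _ = 1 := by rw [F.Dsq v (h.sub v hv), F.sq w (h.sub w hw), one_mul]

/-- something commuting with `E` and `a(E)` commutes with `dbl a E` -/
theorem comm_of (F : Fam t K D a) (h : Elem D a E) {y : G} (h1 : ∀ v ∈ E, y * v = v * y)
    (h2 : ∀ v ∈ E, y * a v = a v * y) : ∀ g ∈ dbl a E, y * g = g * y := by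
  intro g hg
  obtain ⟨v, hv, w, hw, rfl⟩ := (h.mem_dbl F).1 hg
  calc y * (v * a w) = (y * v) * a w := by group
    _ = v * (y * a w) := by rw [h1 v hv]; group
    _ = v * a w * y := by rw [h2 w hw]; group

theorem conj_t_mem (F : Fam t K D a) (h : Elem D a E) {g : G} (hg : g ∈ dbl a E) : t * g * t ∈ dbl a E := by
  obtain ⟨v, hv, w, hw, rfl⟩ := (h.mem_dbl F).1 hg
  refine (h.mem_dbl F).2 ⟨v * w, mul_mem hv hw, w, hw, ?_⟩
  calc t * (v * a w) * t = (t * v) * a w * t := by group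
    _ = v * (t * a w * t) := by rw [← F.Kt v (F.DK v (h.sub v hv))]; group
    _ = v * w * a w := by rw [conj_t F (h.sub w hw)]; group

/-- uniqueness of the decomposition -/
theorem unique (F : Fam t K D a) (h : Elem D a E) {v w v' w' : G} (hv : v ∈ E) (hw : w ∈ E) (hv' : v' ∈ E)
    (hw' : w' ∈ E) (e : v * a w = v' * a w') : v = v' ∧ w = w' := by
  have e1 : v * w * a w = v' * w' * a w' := by
    have h1 : t * (v * a w) * t = t * (v' * a w') * t := by rw [e]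
    have h2 : ∀ v ∈ E, ∀ w ∈ E, t * (v * a w) * t = v * w * a w := by
      intro v hv w hw
      calc t * (v * a w) * t = (t * v) * a w * t := by group
        _ = v * (t * a w * t) := by rw [← F.Kt v (F.DK v (h.sub v hv))]; group
        _ = v * w * a w := by rw [conj_t F (h.sub w hw)]; group
    rwa [h2 v hv w hw, h2 v' hv' w' hw'] at h1
  have e2 : w = w' := by
    have h1 : w * (v * a w) = w' * (v' * a w') := by
      calc w * (v * a w) = (w * v) * a w := by group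
        _ = v * w * a w := by rw [h.ab w hw v hv]
        _ = v' * w' * a w' := e1
        _ = (w' * v') * a w' := by rw [h.ab v' hv' w' hw']
        _ = w' * (v' * a w') := by group
    rw [e] at h1
    exact mul_right_cancel h1
  rw [e2] at e
  exact ⟨mul_right_cancel e, e2⟩

theorem conj_c_mem (F : Fam t K D a) (h : Elem D a E) {c : G} (hc : c ∈ K) (cc : c * c = 1)
    (hE : ∀ v ∈ E, c * v * c ∈ E) {g : G} (hg : g ∈ dbl a E) : c * g * c ∈ dbl a E := by
  have hci : c⁻¹ = c := inv_eq_of_mul_eq_one_right cc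
  obtain ⟨v, hv, w, hw, rfl⟩ := (h.mem_dbl F).1 hg
  refine (h.mem_dbl F).2 ⟨c * v * c, hE v hv, c * w * c, hE w hw, ?_⟩
  have h1 := F.eqv c hc w (h.sub w hw)
  rw [hci] at h1
  rw [← h1]
  calc c * (v * a w) * c = c * v * 1 * a w * c := by group
    _ = c * v * (c * c) * a w * c := by rw [cc]
    _ = c * v * c * (c * a w * c) := by group

theorem free_t (F : Fam t K D a) (h : Elem D a E) {v : G} (hv : v ∈ E) :
    ∃ c ∈ dbl a E, v = t * c * t * c⁻¹ := by
  refine ⟨a v, a_mem_dbl hv, ?_⟩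
  rw [conj_t F (h.sub v hv), mul_inv_cancel_right]

theorem fix_t (F : Fam t K D a) (h : Elem D a E) {g : G} (hg : g ∈ dbl a E) (hf : t * g * t = g) : g ∈ E := by
  obtain ⟨v, hv, w, hw, rfl⟩ := (h.mem_dbl F).1 hg
  have h1 : t * (v * a w) * t = v * w * a w := by
    calc t * (v * a w) * t = (t * v) * a w * t := by group
      _ = v * (t * a w * t) := by rw [← F.Kt v (F.DK v (h.sub v hv))]; group
      _ = v * w * a w := by rw [conj_t F (h.sub w hw)]; group
  rw [h1] at hf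
  obtain ⟨h2, -⟩ := h.unique F (mul_mem hv hw) hw hv hw hf
  have h3 : w = 1 := mul_eq_left.1 h2
  rw [h3, F.one, mul_one]
  exact hv

theorem free_c (F : Fam t K D a) (h : Elem D a E) {c : G} (hc : c ∈ K) (cc : c * c = 1)
    (hE : ∀ v ∈ E, c * v * c ∈ E) (hfree : ∀ v ∈ E, c * v * c = v → ∃ w ∈ E, v = c * w * c * w⁻¹)
    {g : G} (hg : g ∈ dbl a E) (hf : c * g * c = g) : ∃ x ∈ dbl a E, g = c * x * c * x⁻¹ := by
  have hci : c⁻¹ = c := inv_eq_of_mul_eq_one_right cc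
  have hconj : ∀ w ∈ E, c * a w * c = a (c * w * c) := by
    intro w hw
    have h1 := F.eqv c hc w (h.sub w hw)
    rwa [hci] at h1
  have hmul : ∀ x y : G, c * (x * y) * c = (c * x * c) * (c * y * c) := by
    intro x y
    calc c * (x * y) * c = c * x * 1 * y * c := by group
      _ = c * x * (c * c) * y * c := by rw [cc]
      _ = _ := by group
  obtain ⟨v, hv, w, hw, rfl⟩ := (h.mem_dbl F).1 hg
  rw [hmul, hconj w hw] at hf
  obtain ⟨h1, h2⟩ := h.unique F (hE v hv) (hE w hw) hv hw hf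
  obtain ⟨p, hp, hvp⟩ := hfree v hv h1
  obtain ⟨q, hq, hwq⟩ := hfree w hw h2
  refine ⟨p * a q, (h.mem_dbl F).2 ⟨p, hp, q, hq, rfl⟩, ?_⟩
  have h3 : a w = a (c * q * c) * a q := by
    have e : w = (c * q * c) * q := by
      rw [hwq, v_inv F (h.sub q hq)]
    rw [h.hom _ (hE q hq) q hq, ← e]
  have hcq := hE q hq
  have hcp := hE p hp
  rw [hmul, hconj q hq, mul_inv_rev, fam_inv F (h.sub q hq), h3]
  nth_rewrite 1 [hvp]
  -- `(cpc) p⁻¹ a(cqc) a q = (cpc) a(cqc) (a q p⁻¹)`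
  calc c * p * c * p⁻¹ * (a (c * q * c) * a q) = c * p * c * (p⁻¹ * a (c * q * c)) * a q := by group
    _ = c * p * c * (a (c * q * c) * p⁻¹) * a q := by rw [h.vacomm F (inv_mem hp) hcq]
    _ = c * p * c * a (c * q * c) * (p⁻¹ * a q) := by group
    _ = c * p * c * a (c * q * c) * (a q * p⁻¹) := by rw [h.vacomm F (inv_mem hp) hq]

end Elem

/-- the data -/
structure Data (t : G) (K : Subgroup G) (D : Set G) (a : G → G) (V₀ A B : Subgroup G) (c : G) : Prop where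
  F : Fam t K D a
  EA : Elem D a (V₀ ⊔ A)
  EB : Elem D a (V₀ ⊔ B)
  /-- `[A, B] ≤ V₀` -/
  AB : ∀ v ∈ A, ∀ w ∈ B, v * w * v⁻¹ * w⁻¹ ∈ V₀
  ne : ∀ v ∈ A, ∀ w ∈ B, v ≠ 1 → w ≠ 1 → v * w * v⁻¹ * w⁻¹ ≠ 1
  /-- `Z(C_K(⟨v, w⟩)) = ⟨[v, w]⟩` -/
  cen : ∀ v ∈ A, ∀ w ∈ B, v ≠ 1 → w ≠ 1 → ∀ k ∈ K, k * v = v * k → k * w = w * k →
    (∀ y ∈ K, y * v = v * y → y * w = w * y → k * y = y * k) → k = 1 ∨ k = v * w * v⁻¹ * w⁻¹
  inf1 : A ⊓ V₀ = ⊥
  inf2 : B ⊓ (V₀ ⊔ A) = ⊥
  cK : c ∈ K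
  cc : c * c = 1
  cV : ∀ v ∈ V₀, c * v * c ∈ V₀
  cA : ∀ v ∈ A, c * v * c ∈ A
  cB : ∀ v ∈ B, c * v * c ∈ B
  fV : ∀ v ∈ V₀, c * v * c = v → ∃ w ∈ V₀, v = c * w * c * w⁻¹
  fA : ∀ v ∈ A, c * v * c = v → ∃ w ∈ A, v = c * w * c * w⁻¹
  fB : ∀ v ∈ B, c * v * c = v → ∃ w ∈ B, v = c * w * c * w⁻¹
  cn : c ∉ V₀ ⊔ A ⊔ B

/-- the three groups -/
def X3 (V₀ A B : Subgroup G) : ℕ → Subgroup G
  | 0 => V₀
  | 1 => A
  | _ => B

namespace Data

variable {V₀ A B : Subgroup G} {c : G}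

theorem e0 (d : Data t K D a V₀ A B c) : Elem D a V₀ := d.EA.mono le_sup_left
theorem e1 (d : Data t K D a V₀ A B c) : Elem D a A := d.EA.mono le_sup_right
theorem e2 (d : Data t K D a V₀ A B c) : Elem D a B := d.EB.mono le_sup_right

/-- `dbl V₀` is centralised by `dbl A` and `dbl B` -/
theorem comm0A (d : Data t K D a V₀ A B c) : ∀ x ∈ dbl a V₀, ∀ y ∈ dbl a A, x * y = y * x := by
  have hA : A ≤ V₀ ⊔ A := le_sup_right
  have hV : V₀ ≤ V₀ ⊔ A := le_sup_left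
  intro x hx y hy
  obtain ⟨v, hv, w, hw, rfl⟩ := (d.e0.mem_dbl d.F).1 hx
  refine d.e1.comm_of d.F ?_ ?_ y hy
  · intro p hp
    have h1 := d.EA.ab v (hV hv) p (hA hp)
    have h2 := d.EA.vacomm d.F (hA hp) (hV hw)
    calc v * a w * p = v * (a w * p) := by group
      _ = (v * p) * a w := by rw [← h2]; group
      _ = p * (v * a w) := by rw [h1]; group
  · intro p hp
    have h1 := d.EA.vacomm d.F (hV hv) (hA hp)
    have h2 := d.EA.acomm (hV hw) (hA hp)
    calc v * a w * a p = v * (a w * a p) := by group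
      _ = (v * a p) * a w := by rw [h2]; group
      _ = a p * (v * a w) := by rw [h1]; group

theorem comm0B (d : Data t K D a V₀ A B c) : ∀ x ∈ dbl a V₀, ∀ y ∈ dbl a B, x * y = y * x := by
  have hA : B ≤ V₀ ⊔ B := le_sup_right
  have hV : V₀ ≤ V₀ ⊔ B := le_sup_left
  intro x hx y hy
  obtain ⟨v, hv, w, hw, rfl⟩ := (d.e0.mem_dbl d.F).1 hx
  refine d.e2.comm_of d.F ?_ ?_ y hy
  · intro p hp
    have h1 := d.EB.ab v (hV hv) p (hA hp)
    have h2 := d.EB.vacomm d.F (hA hp) (hV hw)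
    calc v * a w * p = v * (a w * p) := by group
      _ = (v * p) * a w := by rw [← h2]; group
      _ = p * (v * a w) := by rw [h1]; group
  · intro p hp
    have h1 := d.EB.vacomm d.F (hV hv) (hA hp)
    have h2 := d.EB.acomm (hV hw) (hA hp)
    calc v * a w * a p = v * (a w * a p) := by group
      _ = (v * a p) * a w := by rw [h2]; group
      _ = a p * (v * a w) := by rw [h1]; group

/-- the commutators of generators -/
theorem gens (d : Data t K D a V₀ A B c) {v w : G} (hv : v ∈ A) (hw : w ∈ B) :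
    v * w * v⁻¹ * w⁻¹ ∈ dbl a V₀ ∧ v * a w * v⁻¹ * (a w)⁻¹ ∈ dbl a V₀ ∧
      a v * w * (a v)⁻¹ * w⁻¹ ∈ dbl a V₀ ∧ a v * a w * (a v)⁻¹ * (a w)⁻¹ ∈ dbl a V₀ := by
  have F := d.F
  by_cases v1 : v = 1
  · subst v1
    rw [F.one]
    refine ⟨?_, ?_, ?_, ?_⟩
    · have : (1 : G) * w * 1⁻¹ * w⁻¹ = 1 := by group
      rw [this]; exact one_mem _
    · have : (1 : G) * a w * 1⁻¹ * (a w)⁻¹ = 1 := by group
      rw [this]; exact one_mem _
    · have : (1 : G) * w * 1⁻¹ * w⁻¹ = 1 := by group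
      rw [this]; exact one_mem _
    · have : (1 : G) * a w * 1⁻¹ * (a w)⁻¹ = 1 := by group
      rw [this]; exact one_mem _
  by_cases w1 : w = 1
  · subst w1
    rw [F.one]
    refine ⟨?_, ?_, ?_, ?_⟩
    · have : v * 1 * v⁻¹ * 1⁻¹ = 1 := by group
      rw [this]; exact one_mem _
    · have : v * 1 * v⁻¹ * 1⁻¹ = 1 := by group
      rw [this]; exact one_mem _
    · have : a v * 1 * (a v)⁻¹ * 1⁻¹ = 1 := by group
      rw [this]; exact one_mem _
    · have : a v * 1 * (a v)⁻¹ * 1⁻¹ = 1 := by group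
      rw [this]; exact one_mem _
  obtain ⟨x, hx⟩ : ∃ x, x = v * w * v⁻¹ * w⁻¹ := ⟨_, rfl⟩
  have hxV : x ∈ V₀ := by rw [hx]; exact d.AB v hv w hw
  have x1 : x ≠ 1 := by rw [hx]; exact d.ne v hv w hw v1 w1
  have hA : A ≤ V₀ ⊔ A := le_sup_right
  have hV : V₀ ≤ V₀ ⊔ A := le_sup_left
  have hB : B ≤ V₀ ⊔ B := le_sup_right
  have hV' : V₀ ≤ V₀ ⊔ B := le_sup_left
  have vD := d.e1.sub v hv
  have wD := d.e2.sub w hw
  have xD := d.e0.sub x hxV
  have hvx := d.EA.ab v (hA hv) x (hV hxV)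
  have hwx := d.EB.ab w (hB hw) x (hV' hxV)
  have hxw : v * w * v⁻¹ = x * w := by rw [hx]; group
  have e1 : Even a x w := d.EB.hom x (hV' hxV) w (hB hw)
  have e2 : Even a x v := d.EA.hom x (hV hxV) v (hA hv)
  have hax : a x ∈ dbl a V₀ := Elem.a_mem_dbl hxV
  have hxm : x ∈ dbl a V₀ := Elem.le_dbl a V₀ hxV
  refine ⟨?_, ?_, ?_, ?_⟩
  · rw [← hx]; exact hxm
  · rw [comm_va F vD wD hxw e1]; exact hax
  · -- `[a v, w] = [w, a v]⁻¹`
    have hx' : w * v * w⁻¹ = x * v := by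
      have h1 : v * w = x * w * v := by
        rw [← hxw]; group
      calc w * v * w⁻¹ = x * x * (w * v) * w⁻¹ := by rw [F.Dsq x xD, one_mul]
        _ = x * (x * w * v) * w⁻¹ := by group
        _ = x * (v * w) * w⁻¹ := by rw [h1]
        _ = x * v := by group
    have h2 := comm_va F wD vD hx' e2
    have h3 : a v * w * (a v)⁻¹ * w⁻¹ = (w * a v * w⁻¹ * (a v)⁻¹)⁻¹ := by group
    rw [h3, h2]
    exact inv_mem hax
  · have hcc := d.cen v hv w hw v1 w1
    rw [← hx] at hcc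
    rcases comm_aa F vD wD xD x1 hvx hwx hxw e1 e2 (d.EB.sub _ (mul_mem (hV' hxV) (hB hw)))
      (d.EA.sub _ (mul_mem (hV hxV) (hA hv))) hcc with h | h
    · rw [h]; exact hax
    · rw [h]; exact mul_mem hxm hax

theorem comm_mem (d : Data t K D a V₀ A B c) {x y : G} (hx : x ∈ dbl a A) (hy : y ∈ dbl a B) :
    x * y * x⁻¹ * y⁻¹ ∈ dbl a V₀ := by
  have F := d.F
  -- left factor
  have left : ∀ p q y : G, p ∈ dbl a A → q * y * q⁻¹ * y⁻¹ ∈ dbl a V₀ → p * y * p⁻¹ * y⁻¹ ∈ dbl a V₀ →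
      (p * q) * y * (p * q)⁻¹ * y⁻¹ ∈ dbl a V₀ := by
    intro p q y hp h1 h2
    have h3 := d.comm0A _ h1 p hp
    have e : (p * q) * y * (p * q)⁻¹ * y⁻¹ = (q * y * q⁻¹ * y⁻¹) * (p * y * p⁻¹ * y⁻¹) := by
      calc (p * q) * y * (p * q)⁻¹ * y⁻¹ = p * (q * y * q⁻¹ * y⁻¹) * (y * p⁻¹ * y⁻¹) := by group
        _ = (q * y * q⁻¹ * y⁻¹) * p * (y * p⁻¹ * y⁻¹) := by rw [← h3]
        _ = _ := by group
    rw [e]
    exact mul_mem h1 h2
  have right : ∀ x p q : G, p ∈ dbl a B → x * p * x⁻¹ * p⁻¹ ∈ dbl a V₀ → x * q * x⁻¹ * q⁻¹ ∈ dbl a V₀ →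
      x * (p * q) * x⁻¹ * (p * q)⁻¹ ∈ dbl a V₀ := by
    intro x p q hp h1 h2
    have h3 := d.comm0B _ h2 p hp
    have e : x * (p * q) * x⁻¹ * (p * q)⁻¹ = (x * p * x⁻¹ * p⁻¹) * (x * q * x⁻¹ * q⁻¹) := by
      calc x * (p * q) * x⁻¹ * (p * q)⁻¹ = (x * p * x⁻¹) * ((x * q * x⁻¹ * q⁻¹) * p⁻¹) := by
            rw [mul_inv_rev]; group
        _ = (x * p * x⁻¹) * (p⁻¹ * (x * q * x⁻¹ * q⁻¹)) := by
            have h4 : (x * q * x⁻¹ * q⁻¹) * p⁻¹ = p⁻¹ * (x * q * x⁻¹ * q⁻¹) := by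
              rw [eq_inv_mul_iff_mul_eq, ← mul_assoc, ← h3, mul_inv_cancel_right]
            rw [h4]
        _ = _ := by group
    rw [e]
    exact mul_mem h1 h2
  obtain ⟨v, hv, v', hv', rfl⟩ := (d.e1.mem_dbl F).1 hx
  obtain ⟨w, hw, w', hw', rfl⟩ := (d.e2.mem_dbl F).1 hy
  have hwm : w ∈ dbl a B := Elem.le_dbl a B hw
  have hvm : v ∈ dbl a A := Elem.le_dbl a A hv
  obtain ⟨g1, -, g3, -⟩ := d.gens hv hw
  obtain ⟨-, g2, -, -⟩ := d.gens hv hw'
  obtain ⟨-, -, g5, -⟩ := d.gens hv' hw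
  obtain ⟨-, -, -, g6⟩ := d.gens hv' hw'
  apply left
  · exact hvm
  · exact right _ _ _ hwm g5 g6
  · exact right _ _ _ hwm g1 g2

/-- the doubled groups in the form of `Growth` -/
theorem dbl_t (d : Data t K D a V₀ A B c) :
    Growth.Dbl t (fun i => dbl a (X3 V₀ A B i)) (X3 V₀ A B) 3 := by
  have F := d.F
  have he : ∀ i, Elem D a (X3 V₀ A B i) := by
    intro i
    rcases i with _ | _ | i
    · exact d.e0
    · exact d.e1
    · exact d.e2
  have hone : ∀ (H : Subgroup G) (x y : G), x * y = y * x → x * y * x⁻¹ * y⁻¹ ∈ H := by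
    intro H x y h
    have : x * y * x⁻¹ * y⁻¹ = 1 := by rw [h]; group
    rw [this]; exact one_mem _
  refine ⟨F.tt, fun i _ v hv => (he i).conj_t_mem F hv, fun i _ v hv => (he i).dbl_sq F hv,
    fun i _ v hv h => (he i).fix_t F hv h, fun i _ => Elem.le_dbl a _, ?_, fun i _ v hv => (he i).free_t F hv,
    ?_, ?_⟩
  · intro i _ v hv
    have h1 := F.Kt v (F.DK v ((he i).sub v hv))
    rw [← h1, mul_assoc, F.tt, mul_one]
  · intro i j hij hj v hv w hw
    have h01 : ∀ i, 1 ≤ i → dbl a V₀ ≤ Growth.W (fun i => dbl a (X3 V₀ A B i)) i := by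
      intro i hi
      exact Growth.le_W (fun i => dbl a (X3 V₀ A B i)) (i := 0) hi
    interval_cases j
    · omega
    · have hi : i = 0 := by omega
      subst hi
      exact hone _ _ _ (d.comm0A v hv w hw)
    · have hi : i = 0 ∨ i = 1 := by omega
      rcases hi with rfl | rfl
      · exact hone _ _ _ (d.comm0B v hv w hw)
      · exact h01 1 le_rfl (d.comm_mem hv hw)
  · intro k hk
    interval_cases k
    · rw [Growth.W_zero, inf_bot_eq]
    · rw [Growth.W_succ, Growth.W_zero, bot_sup_eq]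
      exact d.inf1
    · rw [Growth.W_succ, Growth.W_succ, Growth.W_zero, bot_sup_eq]
      exact d.inf2

/-- the same for `c` -/
theorem dbl_c (d : Data t K D a V₀ A B c) :
    Growth.Dbl c (fun i => dbl a (X3 V₀ A B i))
      (fun i => dbl a (X3 V₀ A B i) ⊓ centralizer ({c} : Set G)) 3 := by
  have F := d.F
  have he : ∀ i, Elem D a (X3 V₀ A B i) := by
    intro i
    rcases i with _ | _ | i
    · exact d.e0
    · exact d.e1
    · exact d.e2
  have hc : ∀ i, ∀ v ∈ X3 V₀ A B i, c * v * c ∈ X3 V₀ A B i := by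
    intro i
    rcases i with _ | _ | i
    · exact d.cV
    · exact d.cA
    · exact d.cB
  have hf : ∀ i, ∀ v ∈ X3 V₀ A B i, c * v * c = v → ∃ w ∈ X3 V₀ A B i, v = c * w * c * w⁻¹ := by
    intro i
    rcases i with _ | _ | i
    · exact d.fV
    · exact d.fA
    · exact d.fB
  have hfix : ∀ v : G, c * v * c = v ↔ v * c = c * v := by
    intro v
    constructor
    · intro h
      calc v * c = (c * v * c) * c := by rw [h]
        _ = c * v * (c * c) := by group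
        _ = c * v := by rw [d.cc, mul_one]
    · intro h
      rw [← h, mul_assoc, d.cc, mul_one]
  refine ⟨d.cc, fun i _ v hv => (he i).conj_c_mem F d.cK d.cc (hc i) hv, fun i _ v hv => (he i).dbl_sq F hv,
    fun i _ v hv h => ⟨hv, mem_centralizer_singleton_iff.2 ((hfix v).1 h)⟩, fun i _ => inf_le_left, ?_, ?_,
    d.dbl_t.comm, ?_⟩
  · intro i _ v hv
    exact (hfix v).2 (mem_centralizer_singleton_iff.1 hv.2)
  · intro i _ v hv
    exact (he i).free_c F d.cK d.cc (hc i) (hf i) hv.1 ((hfix v).2 (mem_centralizer_singleton_iff.1 hv.2))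
  · intro k hk
    rw [eq_bot_iff]
    rintro x ⟨hx1, hx2⟩
    rw [mem_bot]
    refine EndTwo.inf_bot d.dbl_t hk hx1.1 ?_
    have hle : Growth.W (fun i => dbl a (X3 V₀ A B i) ⊓ centralizer ({c} : Set G)) k ≤
        Growth.W (fun i => dbl a (X3 V₀ A B i)) k := iSup₂_mono fun i _ => inf_le_left
    exact hle hx2

/-- the group `W` -/
def W (a : G → G) (V₀ A B : Subgroup G) : Subgroup G := Growth.W (fun i => dbl a (X3 V₀ A B i)) 3

theorem W_X3 : Growth.W (X3 V₀ A B) 3 = V₀ ⊔ A ⊔ B := by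
  rw [Growth.W_succ, Growth.W_succ, Growth.W_succ, Growth.W_zero, bot_sup_eq]
  rfl

theorem le_W' : V₀ ⊔ A ⊔ B ≤ W a V₀ A B := by
  rw [← W_X3]
  exact iSup₂_mono fun i _ => Elem.le_dbl a _

/-- **the end** -/
theorem false_of [Finite G] (d : Data t K D a V₀ A B c) (hn : ∀ g : G, g * t * g⁻¹ ≠ c)
    (hG : ∀ f : G →* ℤˣ, f t = 1)
    (hodd : ¬ 2 ∣ (zpowers t ⊔ (V₀ ⊔ A ⊔ B ⊔ zpowers c)).relIndex (centralizer ({t} : Set G))) : False := by
  have F := d.F
  have hti := t_inv F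
  have hci : c⁻¹ = c := inv_eq_of_mul_eq_one_right d.cc
  have Dt := d.dbl_t
  have Dc := d.dbl_c
  have ht : ∀ w ∈ W a V₀ A B, t * w * t⁻¹ ∈ W a V₀ A B := by
    intro w hw
    rw [hti]
    exact Dt.conj_W le_rfl hw
  have hc : ∀ w ∈ W a V₀ A B, c * w * c⁻¹ ∈ W a V₀ A B := by
    intro w hw
    rw [hci]
    exact Dc.conj_W le_rfl hw
  have tc : t * c = c * t := (F.Kt c d.cK).symm
  have hVK : V₀ ⊔ A ⊔ B ≤ K := by
    refine sup_le (sup_le ?_ ?_) ?_
    · exact fun v hv => F.DK v (d.e0.sub v hv)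
    · exact fun v hv => F.DK v (d.e1.sub v hv)
    · exact fun v hv => F.DK v (d.e2.sub v hv)
  have hW : ∀ w ∈ W a V₀ A B, t * w * t = w → w ∈ V₀ ⊔ A ⊔ B := by
    intro w hw h
    rw [← W_X3]
    exact (Dt.mem_U_iff le_rfl).2 ⟨hw, h⟩
  have tW : t ∉ W a V₀ A B := by
    intro h
    apply F.tK
    exact hVK (hW t h (by rw [F.tt, one_mul]))
  have cW : c ∉ W a V₀ A B := by
    intro h
    apply d.cn
    exact hW c h (by rw [tc, mul_assoc, F.tt, mul_one])
  refine EndTwo.false_of (W a V₀ A B) ht hc F.tt d.cc tc tW cW (fun w hw h => Dt.exists_conj hw h)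
    (fun w hw h => Dc.exists_conj hw h) hn hG (T := zpowers t ⊔ (V₀ ⊔ A ⊔ B ⊔ zpowers c)) ?_ hodd
  have hle : zpowers t ⊔ (V₀ ⊔ A ⊔ B ⊔ zpowers c) ≤ EndTwo.S4 (W a V₀ A B) t c ht hc F.tt d.cc tc := by
    rw [sup_le_iff, zpowers_le]
    refine ⟨Or.inr (Or.inl (by rw [F.tt]; exact one_mem _)), ?_⟩
    rw [sup_le_iff, zpowers_le]
    exact ⟨fun x hx => Or.inl (le_W' hx), Or.inr (Or.inr (Or.inl (by rw [d.cc]; exact one_mem _)))⟩
  exact fun x hx => hle hx

end Data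

end Cfsg.Agent.OddHalf.D8.M23.Grow
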