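import Cfsg.Agent.OddHalf.D8.M23.Family

/-!
# ODD half, D8: the equivariant family on pairs (M23; helper438's text #8422, typed by helper253)

`F : Fam t K D a`. For commuting `v, w` with `C_K(C_K(⟨v, w⟩)) = ⟨v, w⟩` and an element of `K` cycling `v, w, v w`
either `a v * a w = a (v w)` (`Even`) or `a v * a w = t w a (v w)` (`Odd`). Not all pairs of a group of order 8 are odd.
For `⟨v, w⟩` dihedral of order 8 with `x = [v, w]` and `Z(C_K(⟨v, w⟩)) = ⟨x⟩`: `[a v, a w] ∈ {a x, x a x}`.
-/

set_option autoImplicit false

namespace Cfsg.Agent.OddHalf.D8.M23.Pair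

open Subgroup Cfsg.Agent.OddHalf.D8.M23.Family

variable {G : Type*} [Group G] {t : G} {K : Subgroup G} {D : Set G} {a : G → G}

theorem fam_comm (F : Fam t K D a) {k v : G} (hk : k ∈ K) (hv : v ∈ D) (h : k * v = v * k) :
    k * a v = a v * k := by
  have h1 := F.eqv k hk v hv
  have h2 : k * v * k⁻¹ = v := by rw [h]; group
  rw [h2] at h1
  rw [← mul_inv_eq_iff_eq_mul]
  exact h1

theorem fam_inv (F : Fam t K D a) {v : G} (hv : v ∈ D) : (a v)⁻¹ = a v :=
  inv_eq_of_mul_eq_one_right (F.sq v hv)

theorem t_inv (F : Fam t K D a) : t⁻¹ = t := inv_eq_of_mul_eq_one_right F.tt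

theorem v_inv (F : Fam t K D a) {v : G} (hv : v ∈ D) : v⁻¹ = v :=
  inv_eq_of_mul_eq_one_right (F.Dsq v hv)

/-- `a v * t = t * v * a v` -/
theorem act_left (F : Fam t K D a) {v : G} (hv : v ∈ D) : a v * t = t * v * a v := by
  have h1 := F.act v hv
  calc a v * t = a v * t * (a v * a v) := by rw [F.sq v hv, mul_one]
    _ = (a v * t * a v) * a v := by group
    _ = t * v * a v := by rw [h1]

/-- `v` commutes with `a v` -/
theorem self_comm (F : Fam t K D a) {v : G} (hv : v ∈ D) : v * a v = a v * v :=
  fam_comm F (F.DK v hv) hv rfl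

/-- `t * a v = v * a v * t` -/
theorem act_right (F : Fam t K D a) {v : G} (hv : v ∈ D) : t * a v = v * a v * t := by
  have h1 := act_left F hv
  have h2 := F.Kt v (F.DK v hv)
  have h3 := F.Dsq v hv
  have h4 := self_comm F hv
  calc t * a v = (v * v) * (t * a v) := by rw [h3, one_mul]
    _ = v * (v * t) * a v := by group
    _ = v * (t * v * a v) := by rw [h2]; group
    _ = v * (a v * t) := by rw [h1]
    _ = v * a v * t := by group

/-- `t` normalises -/
theorem conj_t (F : Fam t K D a) {v : G} (hv : v ∈ D) : t * a v * t = v * a v := by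
  rw [act_right F hv, mul_assoc, F.tt, mul_one]

/-- even pairs -/
def Even (a : G → G) (v w : G) : Prop := a v * a w = a (v * w)

/-- odd pairs -/
def Odd (t : G) (a : G → G) (v w : G) : Prop := a v * a w = t * w * a (v * w)

/-- a pair of commuting elements -/
structure Cm (D : Set G) (v w : G) : Prop where
  l : v ∈ D
  r : w ∈ D
  m : v * w ∈ D
  comm : v * w = w * v

theorem conj_mul' (k v w : G) : k * (v * w) * k⁻¹ = (k * v * k⁻¹) * (k * w * k⁻¹) := by group

theorem Even.conj (F : Fam t K D a) {v w k : G} (h : Even a v w) (c : Cm D v w) (hk : k ∈ K) :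
    Even a (k * v * k⁻¹) (k * w * k⁻¹) := by
  unfold Even at h ⊢
  rw [← conj_mul', ← F.eqv k hk v c.l, ← F.eqv k hk w c.r, ← F.eqv k hk _ c.m, ← conj_mul', h]

theorem Odd.conj (F : Fam t K D a) {v w k : G} (h : Odd t a v w) (c : Cm D v w) (hk : k ∈ K) :
    Odd t a (k * v * k⁻¹) (k * w * k⁻¹) := by
  unfold Odd at h ⊢
  have hkt := F.Kt k hk
  rw [← conj_mul' k v w, ← F.eqv k hk v c.l, ← F.eqv k hk w c.r, ← F.eqv k hk _ c.m, ← conj_mul', h]
  calc k * (t * w * a (v * w)) * k⁻¹ = (k * t) * w * a (v * w) * k⁻¹ := by group
    _ = t * (k * w * k⁻¹) * (k * a (v * w) * k⁻¹) := by rw [hkt]; group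

theorem Cm.conj (F : Fam t K D a) {v w k : G} (c : Cm D v w) (hk : k ∈ K) :
    Cm D (k * v * k⁻¹) (k * w * k⁻¹) where
  l := F.Dconj k hk v c.l
  r := F.Dconj k hk w c.r
  m := by rw [← conj_mul']; exact F.Dconj k hk _ c.m
  comm := by rw [← conj_mul', ← conj_mul', c.comm]

theorem Cm.symm {v w : G} (c : Cm D v w) : Cm D w v where
  l := c.r
  r := c.l
  m := by rw [← c.comm]; exact c.m
  comm := c.comm.symm

/-- **commuting pairs** -/
theorem even_or_odd (F : Fam t K D a) {v w d : G} (c : Cm D v w) (v1 : v ≠ 1) (w1 : w ≠ 1) (vw : v ≠ w)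
    (hd : d ∈ K) (hdv : d * v * d⁻¹ = w) (hdw : d * w * d⁻¹ = v * w)
    (cc : ∀ x ∈ K, x * v = v * x → x * w = w * x → (∀ y ∈ K, y * v = v * y → y * w = w * y → x * y = y * x) →
      x = 1 ∨ x = v ∨ x = w ∨ x = v * w) : Even a v w ∨ Odd t a v w := by
  obtain ⟨hv, hw, hvw, hc⟩ := c
  have hvK := F.DK v hv
  have hwK := F.DK w hw
  have hv2 := F.Dsq v hv
  have hw2 := F.Dsq w hw
  have hvw2 := F.Dsq _ hvw
  have hav := F.sq v hv
  have haw := F.sq w hw
  have havw := F.sq _ hvw
  -- commutation rules
  have c1 : w * a v = a v * w := fam_comm F hwK hv hc.symm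
  have c2 : v * a w = a w * v := fam_comm F hvK hw hc
  have c3 : v * a (v * w) = a (v * w) * v := fam_comm F hvK hvw (by rw [mul_assoc, ← hc])
  have c4 : w * a (v * w) = a (v * w) * w := fam_comm F hwK hvw (by rw [← mul_assoc, ← hc])
  have c5 := self_comm F hv
  have c6 := self_comm F hw
  obtain ⟨e, he⟩ : ∃ e, e = a v * a w * a (v * w) := ⟨_, rfl⟩
  -- `e` commutes with `t`
  have et : e * t = t * e := by
    have h1 := act_left F hv
    have h2 := act_left F hw
    have h3 := act_left F hvw
    calc e * t = a v * a w * (a (v * w) * t) := by rw [he]; group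
      _ = a v * a w * (t * (v * w) * a (v * w)) := by rw [h3]
      _ = a v * (a w * t) * (v * w) * a (v * w) := by group
      _ = a v * (t * w * a w) * (v * w) * a (v * w) := by rw [h2]
      _ = (a v * t) * w * (a w * v) * w * a (v * w) := by group
      _ = (t * v * a v) * w * (v * a w) * w * a (v * w) := by rw [h1, ← c2]
      _ = t * v * (a v * w) * v * (a w * w) * a (v * w) := by group
      _ = t * v * (w * a v) * v * (w * a w) * a (v * w) := by rw [← c1, ← c6]
      _ = t * v * w * (a v * v) * w * a w * a (v * w) := by group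
      _ = t * v * w * (v * a v) * w * a w * a (v * w) := by rw [← c5]
      _ = t * v * w * v * (a v * w) * a w * a (v * w) := by group
      _ = t * v * w * v * (w * a v) * a w * a (v * w) := by rw [← c1]
      _ = t * ((v * w) * (v * w)) * (a v * a w * a (v * w)) := by group
      _ = t * e := by rw [hvw2, mul_one, he]
  -- `e` commutes with `C_K(⟨v,w⟩)`
  have ec : ∀ y ∈ K, y * v = v * y → y * w = w * y → e * y = y * e := by
    intro y hy hyv hyw
    have h1 := fam_comm F hy hv hyv
    have h2 := fam_comm F hy hw hyw
    have h3 := fam_comm F hy hvw (by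
      calc y * (v * w) = (y * v) * w := by group
        _ = v * (y * w) := by rw [hyv]; group
        _ = v * w * y := by rw [hyw]; group)
    calc e * y = a v * a w * (a (v * w) * y) := by rw [he]; group
      _ = a v * a w * (y * a (v * w)) := by rw [h3]
      _ = a v * (a w * y) * a (v * w) := by group
      _ = a v * (y * a w) * a (v * w) := by rw [h2]
      _ = (a v * y) * a w * a (v * w) := by group
      _ = y * e := by rw [← h1, he]; group
  -- the action of `d`
  have hdvw : d * (v * w) * d⁻¹ = v := by
    rw [conj_mul', hdv, hdw]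
    calc w * (v * w) = (w * v) * w := by group
      _ = v * (w * w) := by rw [← hc]; group
      _ = v := by rw [hw2, mul_one]
  have hde : d * e * d⁻¹ = a v * e * a v := by
    have h1 := F.eqv d hd v hv
    have h2 := F.eqv d hd w hw
    have h3 := F.eqv d hd _ hvw
    rw [hdv] at h1
    rw [hdw] at h2
    rw [hdvw] at h3
    calc d * e * d⁻¹ = (d * a v * d⁻¹) * (d * a w * d⁻¹) * (d * a (v * w) * d⁻¹) := by rw [he]; group
      _ = a w * a (v * w) * a v := by rw [h1, h2, h3]
      _ = (a v * a v) * a w * a (v * w) * a v := by rw [hav, one_mul]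
      _ = a v * e * a v := by rw [he]; group
  have final : ∀ f, e = f → a v * a w = f * a (v * w) := by
    intro f hf
    calc a v * a w = a v * a w * (a (v * w) * a (v * w)) := by rw [havw, mul_one]
      _ = e * a (v * w) := by rw [he]; group
      _ = f * a (v * w) := by rw [hf]
  rcases F.cen e et with heK | heK
  · left
    have h1 := cc e heK (ec v hvK rfl hc) (ec w hwK hc.symm rfl) ec
    have h2 : a v * e * a v = e := by
      have h3 : a v * e = e * a v := by
        rcases h1 with h | h | h | h
        · rw [h, one_mul, mul_one]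
        · rw [h, c5]
        · rw [h, c1]
        · rw [h]
          calc a v * (v * w) = (a v * v) * w := by group
            _ = v * (a v * w) := by rw [← c5]; group
            _ = v * w * a v := by rw [← c1]; group
      rw [h3, mul_assoc, hav, mul_one]
    rw [h2] at hde
    have h4 : e = 1 := by
      rcases h1 with h | h | h | h
      · exact h
      · exfalso
        rw [h, hdv] at hde
        exact vw hde.symm
      · exfalso
        rw [h, hdw] at hde
        exact v1 (mul_eq_right.1 hde)
      · exfalso
        rw [h, hdvw] at hde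
        exact w1 (mul_eq_left.1 hde.symm)
    have h5 := final 1 h4
    rw [one_mul] at h5
    exact h5
  · right
    obtain ⟨f, hf⟩ : ∃ f, f = t * e := ⟨_, rfl⟩
    have hef : e = t * f := by rw [hf, ← mul_assoc, F.tt, one_mul]
    rw [← hf] at heK
    have hfy : ∀ y ∈ K, y * v = v * y → y * w = w * y → f * y = y * f := by
      intro y hy hyv hyw
      have h1 := ec y hy hyv hyw
      have h2 := F.Kt y hy
      calc f * y = t * (e * y) := by rw [hf]; group
        _ = (t * y) * e := by rw [h1]; group
        _ = y * f := by rw [← h2, hf]; group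
    have h1 := cc f heK (hfy v hvK rfl hc) (hfy w hwK hc.symm rfl) hfy
    -- `d f d⁻¹ = v f`
    have h2 : d * f * d⁻¹ = v * f := by
      have hdt := F.Kt d hd
      have h3 : a v * f = f * a v := by
        rcases h1 with h | h | h | h
        · rw [h, one_mul, mul_one]
        · rw [h, c5]
        · rw [h, c1]
        · rw [h]
          calc a v * (v * w) = (a v * v) * w := by group
            _ = v * (a v * w) := by rw [← c5]; group
            _ = v * w * a v := by rw [← c1]; group
      have h4 : t * (d * f * d⁻¹) = t * (v * f) := by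
        calc t * (d * f * d⁻¹) = (t * d) * f * d⁻¹ := by group
          _ = d * (t * f) * d⁻¹ := by rw [← hdt]; group
          _ = d * e * d⁻¹ := by rw [hef]
          _ = a v * e * a v := hde
          _ = (a v * t) * (f * a v) := by rw [hef]; group
          _ = t * v * (a v * a v) * f := by rw [act_left F hv, ← h3]; group
          _ = t * (v * f) := by rw [hav]; group
      exact mul_left_cancel h4
    have h4 : f = w := by
      rcases h1 with h | h | h | h
      · exfalso
        rw [h] at h2
        apply v1
        have h5 : d * 1 * d⁻¹ = (1 : G) := by group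
        rw [h5, mul_one] at h2
        exact h2.symm
      · exfalso
        rw [h, hdv, hv2] at h2
        exact w1 h2
      · exact h
      · exfalso
        rw [h, hdvw, ← mul_assoc, hv2, one_mul] at h2
        exact vw h2
    have h5 := final (t * w) (by rw [hef, h4])
    exact h5

/-- symmetric version -/
theorem Even.symm (F : Fam t K D a) {v w : G} (h : Even a v w) (c : Cm D v w) : Even a w v := by
  unfold Even at h ⊢
  have h1 := congrArg (fun x => x⁻¹) h
  simp only [mul_inv_rev] at h1
  rw [fam_inv F c.l, fam_inv F c.r, fam_inv F c.m] at h1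
  rw [h1, c.comm]

theorem Even.mul_comm {v w : G} (F : Fam t K D a) (h : Even a v w) (c : Cm D v w) : a v * a w = a w * a v := by
  have h1 := h.symm F c
  unfold Even at h h1
  rw [h, h1, c.comm]

/-- the product `b v = t a v` -/
theorem odd_mul (F : Fam t K D a) {v w : G} (h : Odd t a v w) (c : Cm D v w) :
    (t * a v) * (t * a w) * (t * a (v * w)) = 1 := by
  unfold Odd at h
  have h1 := act_left F c.l
  have h2 := act_left F c.m
  have hv2 := F.Dsq v c.l
  have hw2 := F.Dsq w c.r
  have havw := F.sq _ c.m
  have hKt := F.Kt _ (F.DK _ c.m)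
  calc (t * a v) * (t * a w) * (t * a (v * w)) = t * (a v * t) * a w * t * a (v * w) := by group
    _ = t * (t * v * a v) * a w * t * a (v * w) := by rw [h1]
    _ = (t * t) * v * (a v * a w) * t * a (v * w) := by group
    _ = v * (t * w * a (v * w)) * t * a (v * w) := by rw [F.tt, one_mul, h]
    _ = (v * t) * w * (a (v * w) * t) * a (v * w) := by group
    _ = (t * v) * w * (t * (v * w) * a (v * w)) * a (v * w) := by rw [F.Kt v (F.DK v c.l), h2]
    _ = t * ((v * w) * t) * (v * w) * (a (v * w) * a (v * w)) := by group
    _ = (t * t) * ((v * w) * (v * w)) := by rw [hKt, havw]; group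
    _ = 1 := by rw [F.tt, F.Dsq _ c.m, one_mul]

theorem b_sq (F : Fam t K D a) {v : G} (hv : v ∈ D) : (t * a v) * (t * a v) = v := by
  have h1 := act_left F hv
  calc (t * a v) * (t * a v) = t * (a v * t) * a v := by group
    _ = (t * t) * v * (a v * a v) := by rw [h1]; group
    _ = v := by rw [F.tt, F.sq v hv]; group

/-- **not all pairs are odd** -/
theorem not_all_odd (F : Fam t K D a) {v w x : G} (hwx : w ≠ x) (c1 : Cm D v w) (c2 : Cm D x (v * w))
    (c3 : Cm D v x) (c4 : Cm D w (v * x)) (c5 : Cm D w x) (h1 : Odd t a v w)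
    (h2 : Odd t a x (v * w)) (h3 : Odd t a v x) (h4 : Odd t a w (v * x)) (h5 : Odd t a w x)
    (h6 : Odd t a x w) : False := by
  have e1 := odd_mul F h1 c1
  have e2 := odd_mul F h2 c2
  have e3 := odd_mul F h3 c3
  have e4 := odd_mul F h4 c4
  have e5 := odd_mul F h5 c5
  have e6 := odd_mul F h6 c5.symm
  have hvwx : x * (v * w) = w * (v * x) := by
    calc x * (v * w) = (x * v) * w := by group
      _ = v * (x * w) := by rw [← c3.comm]; group
      _ = (v * w) * x := by rw [← c5.comm]; group
      _ = w * (v * x) := by rw [c1.comm]; group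
  rw [hvwx] at e2
  rw [c5.comm] at e5
  have q1 := b_sq F c1.r
  have q2 := b_sq F c3.r
  generalize t * a v = bv at *
  generalize t * a w = bw at *
  generalize t * a x = bx at *
  generalize t * a (v * w) = bvw at *
  generalize t * a (v * x) = bvx at *
  generalize t * a (w * (v * x)) = bu at *
  generalize t * a (x * w) = bxw at *
  -- `bv bw bvw = 1`, `bx bvw bu = 1`, `bv bx bvx = 1`, `bw bvx bu = 1`, `bw bx = bx bw`
  have g5 : bw * bx = bx * bw := by
    have h7 : bw * bx = bxw⁻¹ := mul_eq_one_iff_eq_inv.1 e5
    have h8 : bx * bw = bxw⁻¹ := mul_eq_one_iff_eq_inv.1 e6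
    rw [h7, h8]
  have g1 : bvw = (bv * bw)⁻¹ := (inv_eq_of_mul_eq_one_right e1).symm
  have g3 : bvx = (bv * bx)⁻¹ := (inv_eq_of_mul_eq_one_right e3).symm
  have g2 : bx * bvw = bw * bvx := by
    have h7 : bx * bvw = bu⁻¹ := mul_eq_one_iff_eq_inv.1 e2
    have h8 : bw * bvx = bu⁻¹ := mul_eq_one_iff_eq_inv.1 e4
    rw [h7, h8]
  rw [g1, g3, mul_inv_rev, mul_inv_rev, ← mul_assoc, ← mul_assoc] at g2
  have g6 : bx * bw⁻¹ = bw * bx⁻¹ := mul_right_cancel g2
  apply hwx
  rw [← q1, ← q2]
  have g7 : bx = bw * bx⁻¹ * bw := by rw [← g6]; group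
  calc bw * bw = bw * bx⁻¹ * (bx * bw) := by group
    _ = (bw * bx⁻¹ * bw) * bx := by rw [← g5]; group
    _ = bx * bx := by rw [← g7]

/-- mixed pairs are even -/
theorem even_of_mixed (F : Fam t K D a) {p q r : G} (c1 : Cm D p q)
    (c3 : Cm D q r) (c5 : Cm D p r) (h1 : Even a p q)
    (h2 : Odd t a (p * q) r) (h3 : Odd t a q r) (h4 : Odd t a p (q * r)) : False := by
  unfold Even at h1
  unfold Odd at h2 h3 h4
  have hpK := F.DK p c1.l
  have hqK := F.DK q c1.r
  have hrK := F.DK r c3.r
  have a1 := act_left F c1.l
  have a2 : r * a p = a p * r := fam_comm F hrK c1.l c5.comm.symm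
  have hr2 := F.Dsq r c3.r
  apply F.tK
  have e1 : a p * a q * a r = t * r * a (p * q * r) := by rw [h1, h2]
  have e2 : a p * a q * a r = p * q * a (p * q * r) := by
    calc a p * a q * a r = a p * (a q * a r) := by group
      _ = a p * (t * r * a (q * r)) := by rw [h3]
      _ = (a p * t) * r * a (q * r) := by group
      _ = t * p * (a p * r) * a (q * r) := by rw [a1]; group
      _ = t * p * r * (a p * a (q * r)) := by rw [← a2]; group
      _ = t * (p * r) * t * (q * r) * a (p * (q * r)) := by rw [h4]; group
      _ = t * ((p * r) * t) * (q * r) * a (p * (q * r)) := by group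
      _ = (t * t) * (p * r) * (q * r) * a (p * (q * r)) := by
          rw [F.Kt _ (K.mul_mem hpK hrK)]; group
      _ = p * r * (q * r) * a (p * (q * r)) := by rw [F.tt, one_mul]
      _ = p * (q * r) * r * a (p * (q * r)) := by
          rw [c3.comm]
          have := c3.comm
          calc p * r * (r * q) * a (p * (r * q)) = p * (r * r) * q * a (p * (r * q)) := by group
            _ = p * (r * q) * r * a (p * (r * q)) := by
              rw [hr2, mul_one, ← this]
              calc p * q * a (p * (q * r)) = p * q * (r * r) * a (p * (q * r)) := by rw [hr2, mul_one]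
                _ = p * (q * r) * r * a (p * (q * r)) := by group
      _ = p * q * (r * r) * a (p * (q * r)) := by group
      _ = p * q * a (p * q * r) := by rw [hr2, mul_one, mul_assoc p q r]
  have e3 : t * r = p * q := mul_right_cancel (e1.symm.trans e2)
  have e4 : t = p * q * r := by
    calc t = t * (r * r) := by rw [hr2, mul_one]
      _ = p * q * r := by rw [← e3]; group
  rw [e4]
  exact K.mul_mem (K.mul_mem hpK hqK) hrK

/-- the commutator of `v` and `a w` -/
theorem comm_va (F : Fam t K D a) {v w x : G} (hv : v ∈ D) (hw : w ∈ D) (hx : v * w * v⁻¹ = x * w)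
    (e : Even a x w) : v * a w * v⁻¹ * (a w)⁻¹ = a x := by
  rw [F.eqv v (F.DK v hv) w hw, hx, ← e, mul_assoc, mul_inv_cancel, mul_one]

/-- **dihedral pairs** -/
theorem comm_aa (F : Fam t K D a) {v w x : G} (hv : v ∈ D) (hw : w ∈ D) (hxD : x ∈ D) (x1 : x ≠ 1)
    (hvx : v * x = x * v) (hwx : w * x = x * w) (hx : v * w * v⁻¹ = x * w)
    (e1 : Even a x w) (e2 : Even a x v) (hxw : x * w ∈ D) (hxv : x * v ∈ D)
    (cc : ∀ k ∈ K, k * v = v * k → k * w = w * k →
      (∀ y ∈ K, y * v = v * y → y * w = w * y → k * y = y * k) → k = 1 ∨ k = x) :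
    a v * a w * (a v)⁻¹ * (a w)⁻¹ = a x ∨ a v * a w * (a v)⁻¹ * (a w)⁻¹ = x * a x := by
  have hvK := F.DK v hv
  have hwK := F.DK w hw
  have hxK := F.DK x hxD
  have hv2 := F.Dsq v hv
  have hw2 := F.Dsq w hw
  have hx2 := F.Dsq x hxD
  have hav := F.sq v hv
  have haw := F.sq w hw
  have hax := F.sq x hxD
  have vi := v_inv F hv
  have wi := v_inv F hw
  have xi := v_inv F hxD
  have cxw : Cm D x w := ⟨hxD, hw, hxw, hwx.symm⟩
  have cxv : Cm D x v := ⟨hxD, hv, hxv, hvx.symm⟩
  have m1 := e1.mul_comm F cxw
  have m2 := e2.mul_comm F cxv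
  unfold Even at e1 e2
  -- `w v w⁻¹ = x v`
  have hx' : w * v * w⁻¹ = x * v := by
    have h1 : v * w = x * w * v := by
      rw [← hx]; group
    calc w * v * w⁻¹ = x * x * (w * v) * w⁻¹ := by rw [hx2, one_mul]
      _ = x * (x * w * v) * w⁻¹ := by group
      _ = x * (v * w) * w⁻¹ := by rw [h1]
      _ = x * v := by group
  have c1 : v * a w = a x * a w * v := by
    have h1 := F.eqv v hvK w hw
    rw [hx, ← e1] at h1
    rw [← h1]; group
  have c2 : w * a v = a x * a v * w := by
    have h1 := F.eqv w hwK v hv
    rw [hx', ← e2] at h1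
    rw [← h1]; group
  have c3 : x * a v = a v * x := fam_comm F hxK hv hvx.symm
  have c4 : x * a w = a w * x := fam_comm F hxK hw hwx.symm
  have c5 : v * a x = a x * v := fam_comm F hvK hxD hvx
  have c6 : w * a x = a x * w := fam_comm F hwK hxD hwx
  have c7 := self_comm F hv
  have c8 := self_comm F hw
  have c9 := self_comm F hxD
  -- `a v w = a x w a v`
  have c2' : a v * w = a x * w * a v := by
    calc a v * w = (a x * a x) * a v * w := by rw [hax, one_mul]
      _ = a x * (a x * a v * w) := by group
      _ = a x * (w * a v) := by rw [c2]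
      _ = a x * w * a v := by group
  have c1' : a w * v = a x * v * a w := by
    calc a w * v = (a x * a x) * a w * v := by rw [hax, one_mul]
      _ = a x * (a x * a w * v) := by group
      _ = a x * (v * a w) := by rw [c1]
      _ = a x * v * a w := by group
  obtain ⟨e, he⟩ : ∃ e, e = a v * a w * a v * a w := ⟨_, rfl⟩
  -- `e` commutes with `a x`, `v`, `w`
  have ex : e * a x = a x * e := by
    calc e * a x = a v * a w * a v * (a w * a x) := by rw [he]; group
      _ = a v * a w * (a v * a x) * a w := by rw [← m1]; group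
      _ = a v * (a w * a x) * a v * a w := by rw [← m2]; group
      _ = (a v * a x) * a w * a v * a w := by rw [← m1]; group
      _ = a x * e := by rw [← m2, he]; group
  have ev : v * e = e * v := by
    calc v * e = (v * a v) * a w * a v * a w := by rw [he]; group
      _ = a v * (v * a w) * a v * a w := by rw [c7]; group
      _ = a v * a x * a w * (v * a v) * a w := by rw [c1]; group
      _ = a v * a x * a w * a v * (v * a w) := by rw [c7]; group
      _ = a v * a x * a w * (a v * a x) * a w * v := by rw [c1]; group
      _ = a v * a x * (a w * a x) * a v * a w * v := by rw [← m2]; group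
      _ = a v * (a x * a x) * a w * a v * a w * v := by rw [← m1]; group
      _ = e * v := by rw [hax, mul_one, he]
  have ew : w * e = e * w := by
    calc w * e = (w * a v) * a w * a v * a w := by rw [he]; group
      _ = a x * a v * (w * a w) * a v * a w := by rw [c2]; group
      _ = a x * a v * a w * (w * a v) * a w := by rw [c8]; group
      _ = a x * a v * a w * a x * a v * (w * a w) := by rw [c2]; group
      _ = a x * (a v * a w * a x * a v * a w) * w := by rw [c8]; group
      _ = a x * (a v * (a w * a x) * a v * a w) * w := by group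
      _ = a x * ((a v * a x) * a w * a v * a w) * w := by rw [← m1]; group
      _ = (a x * a x) * (a v * a w * a v * a w) * w := by rw [← m2]; group
      _ = e * w := by rw [hax, one_mul, he]
  -- the action on `t`
  have et : e * t = t * x * e := by
    have h1 := act_left F hv
    have h2 := act_left F hw
    calc e * t = a v * a w * a v * (a w * t) := by rw [he]; group
      _ = a v * a w * (a v * t) * w * a w := by rw [h2]; group
      _ = a v * (a w * t) * v * (a v * w) * a w := by rw [h1]; group
      _ = (a v * t) * w * a w * v * (a x * w * a v) * a w := by rw [h2, c2']; group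
      _ = t * v * (a v * w) * (a w * v) * a x * w * a v * a w := by rw [h1]; group
      _ = t * v * (a x * w * a v) * (a x * v * a w) * a x * w * a v * a w := by rw [c2', c1']
      _ = t * (v * a x) * w * (a v * a x) * v * (a w * a x) * w * a v * a w := by group
      _ = t * a x * v * (w * a x) * a v * v * a x * (a w * w) * a v * a w := by
          rw [c5, ← m2, ← m1]; group
      _ = t * a x * v * a x * w * (a v * v) * a x * (w * a w) * a v * a w := by rw [c6, c8]; group
      _ = t * a x * (v * a x) * w * v * a v * (a x * w) * a w * a v * a w := by rw [← c7]; group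
      _ = t * (a x * a x) * v * w * v * (a v * w) * a x * a w * a v * a w := by rw [c5, ← c6]; group
      _ = t * v * w * v * (a x * w * a v) * a x * a w * a v * a w := by rw [hax, c2', mul_one]
      _ = t * v * w * v * a x * w * (a v * a x) * a w * a v * a w := by group
      _ = t * v * w * v * a x * (w * a x) * a v * a w * a v * a w := by rw [← m2]; group
      _ = t * v * w * v * (a x * a x) * w * (a v * a w * a v * a w) := by rw [c6]; group
      _ = t * (v * w * v) * w * e := by rw [hax, mul_one, he]; group
      _ = t * (v * w * v⁻¹) * w * e := by rw [vi]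
      _ = t * x * (w * w) * e := by rw [hx]; group
      _ = t * x * e := by rw [hw2, mul_one]
  -- `k = e a x`
  obtain ⟨k, hk⟩ : ∃ k, k = e * a x := ⟨_, rfl⟩
  have kt : k * t = t * k := by
    have h1 := act_left F hxD
    have h3 : e * x = x * e := by
      calc e * x = a v * a w * a v * (a w * x) := by rw [he]; group
        _ = a v * a w * (a v * x) * a w := by rw [← c4]; group
        _ = a v * (a w * x) * a v * a w := by rw [← c3]; group
        _ = (a v * x) * a w * a v * a w := by rw [← c4]; group
        _ = x * e := by rw [← c3, he]; group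
    calc k * t = e * (a x * t) := by rw [hk]; group
      _ = (e * t) * x * a x := by rw [h1]; group
      _ = t * x * (e * x) * a x := by rw [et]; group
      _ = t * (x * x) * (e * a x) := by rw [h3]; group
      _ = t * k := by rw [hx2, mul_one, hk]
  have kv : k * v = v * k := by
    calc k * v = e * (a x * v) := by rw [hk]; group
      _ = (e * v) * a x := by rw [← c5]; group
      _ = v * k := by rw [← ev, hk]; group
  have kw : k * w = w * k := by
    calc k * w = e * (a x * w) := by rw [hk]; group
      _ = (e * w) * a x := by rw [← c6]; group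
      _ = w * k := by rw [← ew, hk]; group
  have kx : k * a x = a x * k := by
    calc k * a x = (e * a x) * a x := by rw [hk]
      _ = a x * e * a x := by rw [ex]
      _ = a x * (e * a x) := by group
      _ = a x * k := by rw [hk]
  have ky : ∀ y ∈ K, y * v = v * y → y * w = w * y → k * y = y * k := by
    intro y hy hyv hyw
    have h1 := fam_comm F hy hv hyv
    have h2 := fam_comm F hy hw hyw
    have hyx : y * x = x * y := by
      have h3 : x = v * w * v⁻¹ * w⁻¹ := by rw [hx]; group
      rw [h3]
      have hyv' : y * v⁻¹ = v⁻¹ * y := by rw [vi]; exact hyv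
      have hyw' : y * w⁻¹ = w⁻¹ * y := by rw [wi]; exact hyw
      calc y * (v * w * v⁻¹ * w⁻¹) = (y * v) * w * v⁻¹ * w⁻¹ := by group
        _ = v * (y * w) * v⁻¹ * w⁻¹ := by rw [hyv]; group
        _ = v * w * (y * v⁻¹) * w⁻¹ := by rw [hyw]; group
        _ = v * w * v⁻¹ * (y * w⁻¹) := by rw [hyv']; group
        _ = v * w * v⁻¹ * w⁻¹ * y := by rw [hyw']; group
    have h3 := fam_comm F hy hxD hyx
    calc k * y = a v * a w * a v * a w * (a x * y) := by rw [hk, he]; group
      _ = a v * a w * a v * (a w * y) * a x := by rw [← h3]; group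
      _ = a v * a w * (a v * y) * a w * a x := by rw [← h2]; group
      _ = a v * (a w * y) * a v * a w * a x := by rw [← h1]; group
      _ = (a v * y) * a w * a v * a w * a x := by rw [← h2]; group
      _ = y * k := by rw [← h1, hk, he]; group
  have he' : a v * a w * (a v)⁻¹ * (a w)⁻¹ = k * a x := by
    rw [fam_inv F hv, fam_inv F hw, ← he, hk, mul_assoc, hax, mul_one]
  rw [he']
  rcases F.cen k kt with h | h
  · rcases cc k h kv kw ky with h1 | h1
    · left; rw [h1, one_mul]
    · right; rw [h1]
  · -- `t k ∈ {1, x}` is impossible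
    exfalso
    obtain ⟨f, hf⟩ : ∃ f, f = t * k := ⟨_, rfl⟩
    have hkf : k = t * f := by rw [hf, ← mul_assoc, F.tt, one_mul]
    rw [← hf] at h
    have vt := F.Kt v hvK
    have wt := F.Kt w hwK
    have fy : ∀ y ∈ K, k * y = y * k → f * y = y * f := by
      intro y hy hyk
      have h2 := F.Kt y hy
      calc f * y = t * (k * y) := by rw [hf]; group
        _ = (t * y) * k := by rw [hyk]; group
        _ = y * f := by rw [← h2, hf]; group
    have h1 := cc f h (fy v hvK kv) (fy w hwK kw) (fun y hy hyv hyw => fy y hy (ky y hy hyv hyw))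
    have h2 : f * a x = a x * f := by
      rcases h1 with h1 | h1
      · rw [h1, one_mul, mul_one]
      · rw [h1, c9]
    -- `k a x = a x k` gives `x = 1`
    have h3 : t * f * a x = t * x * (f * a x) := by
      calc t * f * a x = k * a x := by rw [hkf]
        _ = a x * k := kx
        _ = (a x * t) * f := by rw [hkf]; group
        _ = t * x * (a x * f) := by rw [act_left F hxD]; group
        _ = t * x * (f * a x) := by rw [h2]
    have h4 : x = 1 := by
      have h5 : t * (f * a x) = t * (x * (f * a x)) := by
        calc t * (f * a x) = t * f * a x := by group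
          _ = t * x * (f * a x) := h3
          _ = _ := by group
      exact mul_eq_right.1 (mul_left_cancel h5).symm
    exact x1 h4

end Cfsg.Agent.OddHalf.D8.M23.Pair
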